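import Cfsg.Agent.H198.TriCls
import Cfsg.Agent.H208.SgAut
import Cfsg.Agent.H126.TriRigid
import Cfsg.Agent.H513.CoreFG
import Cfsg.Agent.H753.GTwoCore
import Cfsg.Agent.H459.Rad

/-!
# Triality automorphisms of order three are not radical (helper39; for S3854, S3832, S4336)

* `rc_false` : an automorphism `x` of order three of `P8 F` (`F` any finite field) which is not induced by a
  semisimilarity does not satisfy `RC x`.
-/

set_option autoImplicit false

namespace Cfsg.Agent.H39.Tri3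

open Module QuadraticMap Cfsg.Agent.LieClassical.OrthCore Cfsg.Agent.LieClassical.OrthTrans
  Cfsg.Agent.LieClassical.OrthSimple Cfsg.Agent.ClassicalGeometry.OrthAut1
  Cfsg.Agent.ClassicalGeometry.OrthSemi Cfsg.Agent.H198.Classes
  Cfsg.Agent.LieClassical.QuadForms Cfsg.Agent.H198.ClassesPlus
  Cfsg.Agent.ClassicalGeometry.TrialityOct Cfsg.Agent.ClassicalGeometry.Triality
  Cfsg.Agent.ClassicalGeometry.TrialitySpaces Cfsg.Agent.H198.TriBase Cfsg.Agent.H198.TriAut
  Cfsg.Agent.H206.Balance Cfsg.Agent.H198.BalVar Cfsg.Agent.H198.TriDia Cfsg.Agent.H198.TriSpec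
  Cfsg.Agent.H459.Rad

universe u

section Abs

open Subgroup

/-- a solvable subgroup normalised by a group between `G'` and `G`, `G'` simple with trivial centraliser -/
theorem core_sol {G : Type*} [Group G] [Finite G] (hS : IsSimpleGroup (commutator G))
    (hs : ¬ Group.IsSolvable (commutator G))
    (hZ : centralizer ((commutator G : Subgroup G) : Set G) = ⊥)
    (H M : Subgroup G) (hH : commutator G ≤ H) (hn : ∀ c ∈ H, ∀ a ∈ M, c * a * c⁻¹ ∈ M)
    (hc : Group.IsSolvable M) : M = ⊥ := by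
  have hN : (M.subgroupOf (commutator G)).Normal := by
    constructor
    intro a ha g
    rw [mem_subgroupOf] at ha ⊢
    exact hn g (hH g.2) a ha
  have hbot : M.subgroupOf (commutator G) = ⊥ := by
    rcases hN.eq_bot_or_eq_top with h | h
    · exact h
    · exfalso
      have h1 : commutator G ≤ M := subgroupOf_eq_top.1 h
      exact hs (SignalizersComponents.ComponentExists.isSolvable_of_le h1 hc)
  have hinf : ∀ g ∈ M, g ∈ commutator G → g = 1 := by
    intro g hg hg'
    have h1 : (⟨g, hg'⟩ : commutator G) ∈ M.subgroupOf (commutator G) := hg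
    rw [hbot, mem_bot] at h1
    exact congrArg Subtype.val h1
  rw [eq_bot_iff, ← hZ]
  intro m hm
  rw [mem_centralizer_iff]
  intro g hg
  have hn' : (commutator G).Normal := inferInstance
  have h1 : g * m * g⁻¹ * m⁻¹ = 1 := by
    apply hinf
    · exact M.mul_mem (hn g (hH hg) m hm) (M.inv_mem hm)
    · have h2 : g * m * g⁻¹ * m⁻¹ = g * (m * g⁻¹ * m⁻¹) := by group
      rw [h2]
      exact mul_mem hg (hn'.conj_mem _ (inv_mem hg) m)
  have h2 : g * m * g⁻¹ = m := by rw [← mul_inv_eq_one, h1]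
  calc g * m = g * m * g⁻¹ * g := by group
    _ = m * g := by rw [h2]

/-- abstract transport -/
theorem transport_sol {A B : Type*} [Group A] [Group B] (H : Subgroup A) (f : ↥H →* B)
    (hf : Function.Injective f) (X M : Subgroup B) (hX : ∀ g, f g ∈ X) (hM : M ≤ f.range)
    (hn : ∀ c ∈ X, ∀ a ∈ M, c * a * c⁻¹ ∈ M) (hc : Group.IsSolvable M)
    (core : ∀ M' : Subgroup A, (∀ c ∈ H, ∀ a ∈ M', c * a * c⁻¹ ∈ M') →
      Group.IsSolvable M' → M' = ⊥) : M = ⊥ := by
  have hMc : (M.comap f).map f = M := by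
    rw [Subgroup.map_comap_eq, inf_eq_right]
    exact hM
  have h1 : Group.IsSolvable ↥(M.comap f) := by
    refine Group.isSolvable_of_isSolvable_injective (f := f.subgroupComap M) ?_
    intro a b hab
    have h2 : f (a : ↥H) = f (b : ↥H) := congrArg (Subtype.val) hab
    exact Subtype.ext (hf h2)
  have hbot := core ((M.comap f).map H.subtype)
    (by
      rintro c hcH _ ⟨a, ha, rfl⟩
      refine ⟨⟨c, hcH⟩ * a * ⟨c, hcH⟩⁻¹, ?_, rfl⟩
      change f (⟨c, hcH⟩ * a * ⟨c, hcH⟩⁻¹) ∈ M
      rw [map_mul, map_mul, map_inv]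
      exact hn _ (hX _) _ ha)
    (SignalizersComponents.ComponentExists.isSolvable_map h1 _)
  rw [Subgroup.map_eq_bot_iff_of_injective _ H.subtype_injective] at hbot
  rw [← hMc, hbot, Subgroup.map_bot]

end Abs

section GTwo

open Subgroup Cfsg.Lie Cfsg.Agent.H753.GTwoCore

/-- A solvable subgroup normalised by a group between `G₂(F)'` and `G₂(F)` is trivial. -/
theorem G2_sol {F : Type u} [Field F] [Finite F] (H M : Subgroup ↥(Cfsg.Lie.G2 F))
    (hH : commutator ↥(Cfsg.Lie.G2 F) ≤ H) (hn : ∀ c ∈ H, ∀ a ∈ M, c * a * c⁻¹ ∈ M)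
    (hc : Group.IsSolvable M) : M = ⊥ := by
  obtain ⟨e⟩ := Cfsg.Agent.H638.G2Iso.equiv (F := F)
  have hcard := Cfsg.Agent.H638.G2Iso.card_G2 (F := F)
  have hpos : 0 < Nat.card (Cfsg.Lie.G2 F) := by
    rw [hcard]
    have h1 : 1 < Nat.card F := Finite.one_lt_card
    have h2 : 1 < Nat.card F ^ 2 := Nat.one_lt_pow (by norm_num) h1
    have h3 : 1 < Nat.card F ^ 6 := Nat.one_lt_pow (by norm_num) h1
    have h4 : 0 < Nat.card F ^ 2 - 1 := by omega
    have h5 : 0 < Nat.card F ^ 6 - 1 := by omega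
    positivity
  have hfin : Finite (Cfsg.Lie.G2 F) := Nat.finite_of_card_ne_zero hpos.ne'
  rcases two_or (F := F) with h2 | hF
  · -- `|F| = 2`
    have iF : Fintype F := Fintype.ofFinite F
    have h2' : Fintype.card F = 2 := by rw [← Nat.card_eq_fintype_card, h2]
    have iK : Fintype (GaloisField 3 2) := Fintype.ofFinite _
    have hK : Fintype.card (GaloisField 3 2) = 9 := by
      rw [← Nat.card_eq_fintype_card, GaloisField.card 3 2 (by norm_num)]
      rfl
    obtain ⟨e1⟩ := Cfsg.Agent.S1057.result h2' hK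
    obtain ⟨e2⟩ := Cfsg.Agent.S1057.commutator_equiv e
    have e3 := e2.trans e1
    have hS' : IsSimpleGroup (Cfsg.PSU 3 (GaloisField 3 2) 3) :=
      Cfsg.Agent.S0283.result (q := 3) (by rw [hK]; rfl) 3 le_rfl (by norm_num)
    have hS : IsSimpleGroup (commutator (Cfsg.Lie.G2 F)) := e3.isSimpleGroup
    have hcard' : Nat.card (commutator (Cfsg.Lie.G2 F)) = 6048 := by
      rw [Nat.card_congr e3.toEquiv]
      have h5 := Cfsg.Agent.S0280.result (F := GaloisField 3 2) (q := 3) (by rw [hK]; norm_num) 3 (by norm_num)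
      simp only [Finset.prod_range_succ, Finset.prod_range_zero] at h5
      norm_num [Nat.even_iff] at h5
      omega
    have hnc : ¬ IsMulCommutative (commutator (Cfsg.Lie.G2 F)) := by
      intro h5
      let _ : CommGroup (commutator (Cfsg.Lie.G2 F)) :=
        { (inferInstance : Group (commutator (Cfsg.Lie.G2 F))) with mul_comm := h5.is_comm.comm }
      have h6 := IsSimpleGroup.prime_card (α := commutator (Cfsg.Lie.G2 F))
      rw [hcard'] at h6
      revert h6
      norm_num
    refine core_sol hS ?_ (centralizer_eq_bot hS hnc center_eq_bot ?_) H M hH hn hc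
    · intro h5
      exact hnc ⟨⟨IsSimpleGroup.comm_iff_isSolvable.2 h5⟩⟩
    · rw [hcard', hcard, h2]
      norm_num
  · -- `|F| > 2`
    obtain ⟨hS0, hnc⟩ := Cfsg.Agent.S1055.result hF
    have hS : IsSimpleGroup (Cfsg.Lie.G2 F) := e.isSimpleGroup
    have hnc' : ¬ IsMulCommutative (Cfsg.Lie.G2 F) := by
      intro h
      apply hnc
      constructor
      constructor
      intro a b
      have h1 := h.is_comm.comm (e.symm a) (e.symm b)
      apply e.symm.injective
      rw [map_mul, map_mul, h1]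
    have htop := not_comm_commutator hS hnc'
    have hS1 : IsSimpleGroup (commutator (Cfsg.Lie.G2 F)) := by
      rw [htop]
      exact Subgroup.topEquiv.isSimpleGroup
    refine core_sol hS1 ?_ ?_ H M hH hn hc
    · intro h5
      apply hnc'
      have h6 := IsSimpleGroup.comm_iff_isSolvable.2 h5
      refine ⟨⟨fun a b => ?_⟩⟩
      have h7 := h6 ⟨a, by rw [htop]; trivial⟩ ⟨b, by rw [htop]; trivial⟩
      exact congrArg Subtype.val h7
    · rw [htop, coe_top, centralizer_univ, center_eq_bot]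

end GTwo

variable {F : Type u} [Field F]

theorem fG_refl : fG (RingEquiv.refl F) = 1 := by
  apply Subtype.ext
  ext1 x
  rfl

theorem rad_Fx [Finite F] (hG : Good (plusForm 4 F)) [Finite (P8 F)] :
    radIn (Fx (rho hG)) = ⊥ := by
  refine transport_sol (H513.CoreFG.HH (RingEquiv.refl F)) (H513.CoreFG.pP (RingEquiv.refl F))
    (H513.CoreFG.pP_inj hG _) (Fx (rho hG)) _ (fun g => (H513.CoreFG.pP_mem hG _ g).1) ?_
    (fun c hc a ha => radIn_conj_mem hc ha) (radIn_solvable _)
    (fun M' h1 h2 => G2_sol _ M' (H513.CoreFG.comm_le_HH hG _) h1 h2)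
  intro p hp
  refine H513.CoreFG.le_range hG _ (radIn_le _ hp) ?_
  rw [fG_refl, map_one]
  rfl

/-- **Lemma A** -/
theorem eq_one_of_rc [Finite F] [Finite (P8 F)] (hG : Good (plusForm 4 F)) {τ : G8 F} (hτ : TriS τ τ τ)
    (h : RC (xt hG τ)) : τ = 1 := by
  have hx : ∀ m ∈ Fx (rho hG), xt hG τ m ∈ Fx (rho hG) := by
    intro m hm
    rw [mem_Fx] at hm ⊢
    have h1 := congrArg (fun f : MulAut (P8 F) => f m) (rho_comm hG hτ)
    have h2 : rho hG (Psi (plusForm 4 F) τ m) = Psi (plusForm 4 F) τ (rho hG m) := h1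
    rw [xt, MulAut.mul_apply, hm, h2, hm]
  have hM : Fx (rho hG) ≠ ⊤ := by
    intro h1
    apply rho_not_mem hG
    have h2 : rho hG = 1 := by
      ext m
      exact (mem_Fx (x := rho hG)).1 (by rw [h1]; trivial)
    rw [h2]
    exact one_mem _
  have h1 : ∀ m ∈ Fx (rho hG), xt hG τ m = m := by
    intro m hm
    have h2 := h _ hM hx m hm
    rw [rad_Fx hG, Subgroup.mem_bot] at h2
    exact (inv_mul_eq_one.1 h2).symm
  have h2 : ∀ (u w : V8 F) (hs : Sp u w), Psi (plusForm 4 F) τ ((sg hs : ↥(E (plusForm 4 F))) : P8 F) =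
      ((sg hs : ↥(E (plusForm 4 F))) : P8 F) := by
    intro u w hs
    have h3 := h1 _ (H208.SgAut.rho_sg hG hs)
    rwa [xt, MulAut.mul_apply, H208.SgAut.rho_sg hG hs] at h3
  obtain ⟨c, σ, h4⟩ := H126.TriRigid.rigid hG (fun u w hs _ _ => h2 u w hs)
  have hk : kp F τ = 1 := (mem_T1_iff hG).1 ⟨τ, τ, hτ⟩
  have h5 : τ = scal (plusForm 4 F) c * fG σ := by
    rcases h4 with h4 | h4
    · exact h4
    · exfalso
      rw [h4, map_mul, map_mul, kp_scal, kp_fG, kp_kapG, one_mul, one_mul] at hk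
      exact absurd hk (by decide)
  have hf1 : (fG σ).1 (one8 F) = one8 F := aut_one (tri_fG σ)
  have hc : c = 1 := by
    have h6 := aut_one hτ
    rw [h5] at h6
    change (c : F) • (fG σ).1 (one8 F) = one8 F at h6
    rw [hf1] at h6
    have h7 := congrFun h6 (.inl 0)
    apply Units.ext
    simpa [one8] using h7
  rw [hc, map_one, one_mul] at h5
  -- `σ = 1`
  have hσ : ∀ a : F, σ a = a := by
    intro a
    have hs0 : Sp (H126.TriRigid.eU F 1) (H126.TriRigid.eW F 2) :=
      H126.TriRigid.sp_single (by decide) (by decide) (by decide)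
    have hs := hs0.smul a 1
    have h6 := h2 _ _ hs
    rw [H208.SgAut.psi_sg hs hτ] at h6
    have h7 := AutD_unique hG (H513.CoreFG.mem_AutD_one (sg (hs.map hτ)).2 (H208.SgAut.sg_omul (hs.map hτ)))
      (H513.CoreFG.mem_AutD_one (sg hs).2 (H208.SgAut.sg_omul hs)) h6
    have h8 := congrArg (fun g : ↥(E (plusForm 4 F)) => (g : V8 F ≃ₗ[F] V8 F) (H126.TriRigid.eW F 1) (.inr 2)) h7
    simp only [sg_apply, h5] at h8
    simp only [polar8, Pi.add_apply, Pi.sub_apply, Pi.smul_apply, smul_eq_mul, fG_apply] at h8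
    simpa using h8
  have h9 : σ = RingEquiv.refl F := RingEquiv.ext hσ
  rw [h5, h9, fG_refl]

/-! ### `ρ` is conjugate to `Ψ(τ) ρ`, `τ ≠ 1` -/

/-- an octonion with `a ^ 2 + a + 1 = 0` -/
def aa (F : Type u) [Field F] : V8 F := Sum.elim ![0, 1, 0, 0] ![-1, 1, 0, 0]

theorem norm_aa : plusForm 4 F (aa F) = 1 := by
  rw [norm8]
  simp [aa]

theorem norm_aa_ne : plusForm 4 F (aa F) ≠ 0 := by
  rw [norm_aa]
  exact one_ne_zero

/-- left multiplication by `a` -/
def la (F : Type u) [Field F] : G8 F := lG (aa F) norm_aa_ne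

/-- `x ↦ (a x) a` -/
def ba (F : Type u) [Field F] : G8 F := bG (aa F) norm_aa_ne

theorem ba_la : ba F * la F = la F * ba F := by
  apply Subtype.ext
  ext1 x
  change omul (omul (aa F) (omul (aa F) x)) (aa F) = omul (aa F) (omul (omul (aa F) x) (aa F))
  coord8

theorem third : (la F)⁻¹ * rG (aa F) norm_aa_ne = la F * ba F := by
  rw [inv_mul_eq_iff_eq_mul]
  apply Subtype.ext
  ext1 x
  change omul x (aa F) = omul (aa F) (omul (aa F) (omul (omul (aa F) x) (aa F)))
  apply ext8 <;>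
  simp only [omul_l0, omul_l1, omul_l2, omul_l3, omul_r0, omul_r1, omul_r2, omul_r3, aa, Sum.elim_inl, Sum.elim_inr,
    Matrix.cons_val_zero, Matrix.cons_val_one, Matrix.cons_val] <;>
  ring

theorem tri_la_ba : TriS (la F * ba F) (la F * ba F) (la F * ba F) := by
  have h := (tri_lG (aa F) norm_aa_ne).mul (tri_bG (aa F) norm_aa_ne)
  have h1 : bG (aa F) norm_aa_ne * lG (aa F) norm_aa_ne = la F * ba F := ba_la
  have h2 : (lG (aa F) norm_aa_ne)⁻¹ * rG (aa F) norm_aa_ne = la F * ba F := third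
  rwa [h1, h2] at h

theorem kap_ba : (kapG F * ba F * kapG F)⁻¹ = ba F := by
  rw [inv_eq_iff_mul_eq_one]
  apply Subtype.ext
  ext1 x
  change oconj (omul (omul (aa F) (oconj (omul (omul (aa F) x) (aa F)))) (aa F)) = x
  apply ext8 <;>
  simp only [omul_l0, omul_l1, omul_l2, omul_l3, omul_r0, omul_r1, omul_r2, omul_r3, oconj_l0, oconj_l1, oconj_l2,
    oconj_l3, oconj_r0, oconj_r1, oconj_r2, oconj_r3, aa, Sum.elim_inl, Sum.elim_inr,
    Matrix.cons_val_zero, Matrix.cons_val_one, Matrix.cons_val] <;>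
  ring

theorem gen_B {G : Type u} [Group G] {r n c : G} (h : r * n * r⁻¹ = c) : n * r * n⁻¹ = n * c⁻¹ * r := by
  rw [← h]
  group

theorem conj_rho (hG : Good (plusForm 4 F)) :
    Psi (plusForm 4 F) (la F) * rho hG * (Psi (plusForm 4 F) (la F))⁻¹ = xt hG (la F * ba F) := by
  have h := rho_conj hG (tri_lG (aa F) norm_aa_ne)
  have h1 : rho hG * Psi (plusForm 4 F) (la F) * (rho hG)⁻¹ = Psi (plusForm 4 F) (kapG F * ba F * kapG F) := h
  rw [gen_B h1, ← map_inv (Psi (plusForm 4 F)), kap_ba, ← map_mul (Psi (plusForm 4 F))]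
  rfl

theorem la_ba_ne : la F * ba F ≠ 1 := by
  intro h
  have h1 := congrArg (fun g : G8 F => g.1 (H126.TriRigid.eU F 2) (.inr 3)) h
  change omul (aa F) (omul (omul (aa F) (H126.TriRigid.eU F 2)) (aa F)) (.inr 3) = (H126.TriRigid.eU F 2) (.inr 3) at h1
  simp [omul_l0, omul_l1, omul_l2, omul_l3, omul_r0, omul_r1, omul_r2, omul_r3, aa] at h1

/-! ### The theorem -/

/-- the inverse of a radical automorphism -/
theorem rc_inv {K : Type*} [Group K] [Finite K] {x : MulAut K} (h : RC x) : RC x⁻¹ := by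
  intro M hM hx m hm
  have hmap : M.map (x⁻¹ : MulAut K).toMonoidHom = M := by
    refine Subgroup.eq_of_le_of_card_ge ?_ ?_
    · rintro _ ⟨m, hm, rfl⟩
      exact hx m hm
    · rw [Nat.card_congr (M.equivMapOfInjective _ (x⁻¹ : MulAut K).injective).toEquiv.symm]
  have hx' : ∀ m ∈ M, x m ∈ M := by
    intro m hm
    rw [← hmap] at hm
    obtain ⟨m', hm', rfl⟩ := hm
    change x (x⁻¹ m') ∈ M
    rwa [MulAut.apply_inv_self]
  have h1 := h M hM hx' (x⁻¹ m) (hx m hm)
  rw [MulAut.apply_inv_self] at h1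
  have h2 := inv_mem h1
  rwa [mul_inv_rev, inv_inv] at h2

theorem rc_conj {K : Type*} [Group K] [Finite K] {x : MulAut K} (h : RC x) (α : MulAut K) : RC (α * x * α⁻¹) :=
  h.tr α

/-- **A triality automorphism of order three is not radical.** -/
theorem rc_false [Finite F] (hG : Good (plusForm 4 F)) {x : MulAut (P8 F)} (hx : x ∉ (Psi (plusForm 4 F)).range)
    (ho : x ^ 3 = 1) (h : RC x) : False := by
  have hfin : Finite (P8 F) := by
    have h1 : Finite (V8 F ≃ₗ[F] V8 F) := Finite.of_injective (fun f => (f : V8 F → V8 F)) DFunLike.coe_injective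
    exact Quotient.finite _
  obtain ⟨α, τ, hτ, -, h1, -⟩ := H198.TriCls.classify hG hx ho
  have h2 : RC (xt hG τ) := by
    rcases h1 with h1 | h1
    · rw [← h1]
      exact rc_conj h α
    · rw [← h1]
      exact rc_conj (rc_inv h) α
  have h3 := eq_one_of_rc hG hτ h2
  rw [h3, H513.CoreFG.xt_one] at h2
  have h4 := rc_conj h2 (Psi (plusForm 4 F) (la F))
  rw [conj_rho hG] at h4
  exact la_ba_ne (eq_one_of_rc hG tri_la_ba h4)

/-- radical automorphisms of order three are induced by semisimilarities -/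
theorem mem_range_of_rc [Finite F] (hG : Good (plusForm 4 F)) {x : MulAut (P8 F)} (ho : x ^ 3 = 1) (h : RC x) :
    x ∈ (Psi (plusForm 4 F)).range := by
  by_contra hx
  exact rc_false hG hx ho h

/-- the version for a group isomorphic to `P8 F` -/
theorem tr_mem_range_of_rc {K : Type*} [Group K] [Finite K] [Finite F] (hG : Good (plusForm 4 F)) (e : K ≃* P8 F)
    {x : MulAut K} (ho : orderOf x = 3) (h : RC x) : H459.Rad.tr e x ∈ (Psi (plusForm 4 F)).range := by
  have hfin : Finite (P8 F) := Finite.of_equiv K e.toEquiv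
  refine mem_range_of_rc hG ?_ (h.tr e)
  rw [← ho, ← orderOf_tr e x, pow_orderOf_eq_one]

/-- `PΩ₈⁺(F)` as `P8 F` -/
theorem exists_equiv [Finite F] : ∃ _ : Good (plusForm 4 F), Nonempty (Cfsg.POmega F (Cfsg.quadFormPlus 4 F) ≃* P8 F) := by
  have hG : Good (plusForm 4 F) := AutOrth.Main.good_plus (by norm_num)
  refine ⟨hG, ⟨?_⟩⟩
  have h1 : ∀ {Q : QuadraticForm F (Fin 4 ⊕ Fin 4 → F)} (_ : Q = plusForm 4 F) (_ : Good Q),
      Nonempty (Cfsg.POmega F ⇑Q ≃* P8 F) := by
    intro Q hQ hG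
    subst hQ
    exact ⟨AutOrth.Main.pe hG⟩
  exact (h1 (H198.Carriers.plusQ_eq 4 F) (H198.Carriers.good_plusQ (by norm_num))).some

/-- **The triality row**: if no radical automorphism of order three of `PΩ₈⁺(F)` induced by a semisimilarity has the
property `T`, then no radical automorphism of order three has it. -/
theorem row_of_semi {K : Type*} [Group K] [Finite K] [Finite F]
    (e : Nonempty (K ≃* Cfsg.POmega F (Cfsg.quadFormPlus 4 F))) (T : MulAut K → Prop)
    (hT : ∀ e : K ≃* P8 F, ∀ x : MulAut K, orderOf x = 3 → RC x → T x →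
      H459.Rad.tr e x ∈ (Psi (plusForm 4 F)).range → False) :
    ∀ x : MulAut K, orderOf x = 3 → RC x → T x → False := by
  intro x ho hR hx
  obtain ⟨hG, ⟨e1⟩⟩ := exists_equiv (F := F)
  obtain ⟨e2⟩ := e
  exact hT (e2.trans e1) x ho hR hx (tr_mem_range_of_rc hG _ ho hR)

end Cfsg.Agent.H39.Tri3
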