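import Cfsg.Prelude.Def_ConjugacyFunctors
import Cfsg.Agent.Lib.GoldschmidtFusion

/-!
# Isomorphism-invariant functors on `p`-groups and the conjugacy functors they induce

Transport of `Cfsg.inducedFunctor` along injective homomorphisms, behaviour of normalizers.
-/

set_option autoImplicit false

namespace Cfsg.Agent.H39

open Subgroup Cfsg
open Cfsg.Agent.Lib.GoldschmidtFusion

universe u

/-- Functors assigning to every group (in one universe) a subgroup. -/
abbrev Fn : Type (u + 1) := ∀ (Q : Type u) [Group Q], Subgroup Q

section Basic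

variable {p : ℕ} {W : Fn.{u}} {X Y : Type u} [Group X] [Group Y]

theorem induced_le (W : Fn.{u}) (P : Subgroup X) : inducedFunctor (G := X) W P ≤ P :=
  Subgroup.map_subtype_le _

theorem induced_ne_bot (hW : IsCharPFunctor.{u} p W) {P : Subgroup X} [Finite P]
    (hP : IsPGroup p P) (hne : P ≠ ⊥) : inducedFunctor (G := X) W P ≠ ⊥ := by
  have hnt : Nontrivial P := (Subgroup.nontrivial_iff_ne_bot P).2 hne
  intro h
  apply hW.1 P hP hnt
  rw [inducedFunctor] at h
  exact (Subgroup.map_eq_bot_iff_of_injective _ P.subtype_injective).1 h

/-- The induced functor commutes with injective homomorphisms. -/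
theorem induced_map (hW : IsCharPFunctor.{u} p W) (f : X →* Y) (hf : Function.Injective f)
    {T : Subgroup X} [Finite T] (hT : IsPGroup p T) :
    inducedFunctor (G := Y) W (T.map f) = (inducedFunctor (G := X) W T).map f := by
  have h := hW.2 T (T.map f) hT (T.equivMapOfInjective f hf)
  rw [inducedFunctor, inducedFunctor, ← h, Subgroup.map_map, Subgroup.map_map]
  congr 1

/-- The induced functor commutes with homomorphisms which are injective on the subgroup. -/
theorem induced_map_of_injOn (hW : IsCharPFunctor.{u} p W) (f : X →* Y)
    {T : Subgroup X} (hf : ∀ x ∈ T, f x = 1 → x = 1) [Finite T] (hT : IsPGroup p T) :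
    inducedFunctor (G := Y) W (T.map f) = (inducedFunctor (G := X) W T).map f := by
  have hinj : Function.Injective (f.comp T.subtype) := by
    rw [injective_iff_map_eq_one]
    intro x hx
    exact Subtype.ext (hf x x.2 hx)
  have h := hW.2 T (f.comp T.subtype).range hT (MonoidHom.ofInjective hinj)
  have hr : T.map f = (f.comp T.subtype).range := by
    rw [MonoidHom.range_comp, Subgroup.range_subtype]
  rw [hr, inducedFunctor, inducedFunctor, ← h, Subgroup.map_map, Subgroup.map_map]
  congr 1

theorem induced_map_equiv (hW : IsCharPFunctor.{u} p W) (e : X ≃* Y)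
    {T : Subgroup X} [Finite T] (hT : IsPGroup p T) :
    inducedFunctor (G := Y) W (T.map e.toMonoidHom) = (inducedFunctor (G := X) W T).map e.toMonoidHom :=
  induced_map hW e.toMonoidHom e.injective hT

theorem induced_conj (hW : IsCharPFunctor.{u} p W) (g : X) {T : Subgroup X} [Finite T]
    (hT : IsPGroup p T) :
    inducedFunctor (G := X) W (T.map (MulAut.conj g).toMonoidHom) =
      (inducedFunctor (G := X) W T).map (MulAut.conj g).toMonoidHom :=
  induced_map_equiv hW (MulAut.conj g) hT

theorem isConjugacyFunctor_induced [Finite X] (hW : IsCharPFunctor.{u} p W) :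
    IsConjugacyFunctor p (inducedFunctor (G := X) W) := fun P hP =>
  ⟨induced_le W P, fun h => induced_ne_bot hW hP h, fun g => induced_conj hW g hP⟩

end Basic

/-! ### Conjugacy functors and normalizers -/

section ConjFunctor

variable {G : Type*} [Group G] {p : ℕ} {W : Subgroup G → Subgroup G}

theorem normalizer_le_normalizer_functor (hW : IsConjugacyFunctor p W) {P : Subgroup G}
    (hP : IsPGroup p P) :
    normalizer (P : Set G) ≤ normalizer ((W P : Subgroup G) : Set G) := by
  intro g hg
  rw [mem_normalizer_iff_map_conj] at hg ⊢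
  rw [← (hW P hP).2.2 g, hg]

theorem le_normalizer_functor (hW : IsConjugacyFunctor p W) {P : Subgroup G}
    (hP : IsPGroup p P) : P ≤ normalizer ((W P : Subgroup G) : Set G) :=
  le_normalizer.trans (normalizer_le_normalizer_functor hW hP)

theorem isPGroup_functor (hW : IsConjugacyFunctor p W) {P : Subgroup G}
    (hP : IsPGroup p P) : IsPGroup p (W P : Subgroup G) :=
  hP.to_le (hW P hP).1

end ConjFunctor

end Cfsg.Agent.H39
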