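import Cfsg.Agent.H39.Ctrl

/-!
# Abstract form of Alperin's fusion theorem and of the factorization lemma
-/

set_option autoImplicit false

namespace Cfsg.Agent.H39

open Subgroup Cfsg
open Cfsg.Agent.Lib.GoldschmidtFusion

universe u

variable {G : Type*} [Group G]

/-- A property of conjugation maps `A → g A g⁻¹` closed under restriction, composition and inverse. -/
structure Rel (Q : Subgroup G → G → Prop) : Prop where
  mono : ∀ {A B : Subgroup G} {g : G}, B ≤ A → Q A g → Q B g
  mul : ∀ {A : Subgroup G} {g h : G}, Q A g → Q (A.map (MulAut.conj g).toMonoidHom) h → Q A (h * g)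
  symm : ∀ {A : Subgroup G} {g : G}, Q A g → Q (A.map (MulAut.conj g).toMonoidHom) g⁻¹

theorem rel_mv {T : Subgroup G} {E : Set G} (hE : ∀ x ∈ E, x⁻¹ ∈ E) : Rel (Mv T E) where
  mono := fun hBA h => h.mono hBA
  mul := fun h h' => Mv.mul h h'
  symm := fun h => h.symm hE

theorem rel_focal (T : Subgroup G) :
    Rel (fun (A : Subgroup G) (g : G) => ∀ a ∈ A, a⁻¹ * (g * a * g⁻¹) ∈ T) where
  mono := fun hBA h a ha => h a (hBA ha)
  mul := by
    intro A g h h1 h2 a ha
    have e1 := h1 a ha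
    have e2 := h2 (g * a * g⁻¹) (conj_mem_map_conj ha g)
    have := mul_mem e1 e2
    have e : a⁻¹ * (h * g * a * (h * g)⁻¹) =
        a⁻¹ * (g * a * g⁻¹) * ((g * a * g⁻¹)⁻¹ * (h * (g * a * g⁻¹) * h⁻¹)) := by group
    rw [e]; exact this
  symm := by
    intro A g h b hb
    rw [mem_map_conj] at hb
    have := inv_mem (h _ hb)
    have e : b⁻¹ * (g⁻¹ * b * g⁻¹⁻¹) =
        ((g⁻¹ * b * g)⁻¹ * (g * (g⁻¹ * b * g) * g⁻¹))⁻¹ := by group
    rw [e]; exact this

section Sylow

variable [Finite G] {p : ℕ} [Fact p.Prime]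

theorem not_dvd_self_normalizer (S : Sylow p G) :
    ¬ p ∣ ((S : Subgroup G) ⊓ normalizer ((S : Subgroup G) : Set G)).relIndex
      (normalizer ((S : Subgroup G) : Set G)) := by
  rw [inf_eq_left.2 le_normalizer]
  intro h
  exact S.not_dvd_index (h.trans (relIndex_dvd_index_of_le le_normalizer))

/-- **Alperin's fusion theorem**, abstract form, for subgroups containing a given normal subgroup. -/
theorem alperin (S : Sylow p G) {Q : Subgroup G → G → Prop} (hQ : Rel Q) (P : Subgroup G) [hP : P.Normal]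
    (hloc : ∀ B : Subgroup G, B ≤ S → P ≤ B →
      ¬ p ∣ ((S : Subgroup G) ⊓ normalizer (B : Set G)).relIndex (normalizer (B : Set G)) →
      (∀ D : Subgroup G, D ≤ S → P ≤ D → Nat.card B < Nat.card D → ∀ g : G,
        D.map (MulAut.conj g).toMonoidHom ≤ S → Q D g) →
      ∀ n ∈ normalizer (B : Set G), Q B n)
    {A : Subgroup G} (hA : A ≤ S) (hPA : P ≤ A) {g : G} (hg : A.map (MulAut.conj g).toMonoidHom ≤ S) :
    Q A g := by
  have key : ∀ k : ℕ, ∀ A : Subgroup G, A ≤ S → P ≤ A → Nat.card S ≤ Nat.card A + k → ∀ g : G,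
      A.map (MulAut.conj g).toMonoidHom ≤ S → Q A g := by
    intro k
    induction k using Nat.strong_induction_on with
    | _ k ih =>
    intro A hA hPA hk g hg
    have big : ∀ D : Subgroup G, D ≤ S → P ≤ D → Nat.card A < Nat.card D → ∀ g : G,
        D.map (MulAut.conj g).toMonoidHom ≤ S → Q D g := by
      intro D hD hPD hc g hg
      have h1 : Nat.card D ≤ Nat.card S := Subgroup.card_le_of_le hD
      exact ih (Nat.card S - Nat.card D) (by omega) D hD hPD (by omega) g hg
    by_cases hAS : A = S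
    · subst hAS
      have hgN : g ∈ normalizer ((S : Subgroup G) : Set G) :=
        mem_normalizer_iff_map_conj.2 (map_conj_le_of_le_normalizer hg)
      exact hloc _ le_rfl hPA (not_dvd_self_normalizer S) big g hgN
    have ext : ∀ A' : Subgroup G, A' ≤ S → P ≤ A' → Nat.card A' = Nat.card A → ∀ (B : Subgroup G) (k : G),
        A'.map (MulAut.conj k).toMonoidHom = B →
        ¬ p ∣ ((S : Subgroup G) ⊓ normalizer (B : Set G)).relIndex (normalizer (B : Set G)) →
        ∃ h : G, A'.map (MulAut.conj h).toMonoidHom = B ∧ Q A' h := by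
      intro A' hA' hPA' hcard B k hk hB
      obtain ⟨h, hh, hle⟩ := exists_extension S hk hB
      refine ⟨h, hh, ?_⟩
      have hlt' : A' < S := by
        refine lt_of_le_of_ne hA' ?_
        rintro rfl
        exact hAS (Subgroup.eq_of_le_of_card_ge hA hcard.le)
      have h1 : A' < (S : Subgroup G) ⊓ normalizer (A' : Set G) :=
        lt_inf_normalizer S.isPGroup' hlt'
      have h2 : Nat.card A < Nat.card ((S : Subgroup G) ⊓ normalizer (A' : Set G) : Subgroup G) := by
        rw [← hcard]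
        exact Set.Finite.card_lt_card (Set.toFinite _) h1
      exact hQ.mono h1.le (big _ inf_le_left (hPA'.trans h1.le) h2 h (hle.trans inf_le_left))
    obtain ⟨k₁, hB, hBi⟩ := exists_fullyNormalized S hA
    set B := A.map (MulAut.conj k₁).toMonoidHom with hBdef
    have hmapP : ∀ x : G, P.map (MulAut.conj x).toMonoidHom = P := by
      intro x
      rw [← mem_normalizer_iff_map_conj, normalizer_eq_top P]
      exact mem_top _
    have hPB : P ≤ B := by
      rw [← hmapP k₁]; exact map_conj_mono hPA k₁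
    have hPg : P ≤ A.map (MulAut.conj g).toMonoidHom := by
      rw [← hmapP g]; exact map_conj_mono hPA g
    obtain ⟨h₁, hh₁, hQ₁⟩ := ext A hA hPA rfl B k₁ rfl hBi
    obtain ⟨h₂, hh₂, hQ₂⟩ := ext (A.map (MulAut.conj g).toMonoidHom) hg hPg (card_map_conj _ _) B
      (k₁ * g⁻¹) (by rw [map_conj_map_conj]; simp [hBdef]) hBi
    have hn : h₂ * g * h₁⁻¹ ∈ normalizer (B : Set G) := by
      rw [mem_normalizer_iff_map_conj]
      nth_rewrite 1 [← hh₁]
      rw [map_conj_map_conj, ← hh₂, map_conj_map_conj]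
      congr 3
      group
    have hcardB : Nat.card B = Nat.card A := card_map_conj _ _
    have h3 : Q B (h₂ * g * h₁⁻¹) :=
      hloc B hB hPB hBi (fun D hD hPD hc g hg => big D hD hPD (by omega) g hg) _ hn
    have h4 : Q A (h₂ * g * h₁⁻¹ * h₁) := hQ.mul hQ₁ (by rw [hh₁]; exact h3)
    have h5 : Q B h₂⁻¹ := by
      have := hQ.symm hQ₂
      rwa [hh₂] at this
    have h6 : Q A (h₂⁻¹ * (h₂ * g * h₁⁻¹ * h₁)) := by
      refine hQ.mul h4 ?_
      have : A.map (MulAut.conj (h₂ * g * h₁⁻¹ * h₁)).toMonoidHom = B := by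
        rw [← hh₂, map_conj_map_conj]
        congr 3
        group
      rw [this]
      exact h5
    have e : h₂⁻¹ * (h₂ * g * h₁⁻¹ * h₁) = g := by group
    rwa [e] at h6
  exact key (Nat.card S) A hA hPA (by omega) g hg

/-- If `S` is a Sylow subgroup of `G` contained in `H`, a `p`-subgroup of `H` can be moved into `S` by
an element of `H`. -/
theorem exists_conj_le_sylow (S : Sylow p G) {H B : Subgroup G} (hSH : (S : Subgroup G) ≤ H)
    (hB : IsPGroup p B) (hBH : B ≤ H) : ∃ n ∈ H, B.map (MulAut.conj n).toMonoidHom ≤ S := by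
  refine exists_conj_le_in (p := p) S.isPGroup' ?_ hBH hB
  intro h
  exact S.not_dvd_index (h.trans (relIndex_dvd_index_of_le hSH))

/-- **Factorization lemma**: if `G = N H` with `S ≤ N ∩ H` then the fusion in `S` is generated by the
fusion in `H` and in `N`. -/
theorem factorization (S : Sylow p G) {Q : Subgroup G → G → Prop} (hQ : Rel Q) {H N : Subgroup G}
    (hSH : (S : Subgroup G) ≤ H) (hSN : (S : Subgroup G) ≤ N)
    (hfac : ∀ g : G, ∃ n ∈ N, ∃ h ∈ H, g = n * h)
    (hH : ∀ A : Subgroup G, A ≤ S → ∀ h ∈ H, A.map (MulAut.conj h).toMonoidHom ≤ S → Q A h)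
    (hN : ∀ A : Subgroup G, A ≤ S → ∀ h ∈ N, A.map (MulAut.conj h).toMonoidHom ≤ S → Q A h)
    {A : Subgroup G} (hA : A ≤ S) {g : G} (hg : A.map (MulAut.conj g).toMonoidHom ≤ S) : Q A g := by
  obtain ⟨n, hn, h, hh, rfl⟩ := hfac g
  set B := A.map (MulAut.conj h).toMonoidHom with hB
  have hBp : IsPGroup p B := (S.isPGroup'.to_le hA).map _
  have conjle : ∀ (X K : Subgroup G) (k : G), X ≤ K → k ∈ K → X.map (MulAut.conj k).toMonoidHom ≤ K := by
    rintro X K k hX hk _ ⟨x, hx, rfl⟩
    have : k * x * k⁻¹ ∈ K := mul_mem (mul_mem hk (hX hx)) (inv_mem hk)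
    simpa using this
  have hBH : B ≤ H := conjle A H h (hA.trans hSH) hh
  have hBN : B ≤ N := by
    have e : B = (A.map (MulAut.conj (n * h)).toMonoidHom).map (MulAut.conj n⁻¹).toMonoidHom := by
      rw [map_conj_map_conj, hB]; congr 3; group
    rw [e]
    exact conjle _ N _ (hg.trans hSN) (inv_mem hn)
  obtain ⟨d, hd, hdB⟩ := exists_conj_le_sylow S (le_inf hSN hSH) hBp (le_inf hBN hBH)
  have h1 : Q A (d * h) := by
    refine hH A hA _ (mul_mem hd.2 hh) ?_
    rw [← map_conj_map_conj]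
    exact hdB
  have e2 : n * h = (n * d⁻¹) * (d * h) := by group
  rw [e2] at hg ⊢
  refine hQ.mul h1 (hN _ ?_ _ (mul_mem hn (inv_mem hd.1)) ?_)
  · rw [← map_conj_map_conj]; exact hdB
  · rw [map_conj_map_conj]; exact hg

end Sylow

end Cfsg.Agent.H39
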