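import Cfsg.Agent.H39.Functor

/-!
# Chains of conjugations inside a `p`-subgroup

`Mv T E A g`: conjugation by `g` on the subgroup `A ≤ T` is a composite of conjugations by elements
of the set `E`, all intermediate images of `A` lying in `T`.
-/

set_option autoImplicit false

namespace Cfsg.Agent.H39

open Subgroup Cfsg
open Cfsg.Agent.Lib.GoldschmidtFusion

universe u

section Mv

variable {G : Type*} [Group G]

/-- Conjugation by `g` on the subgroup `A ≤ T` is a composite of conjugations by elements of `E`,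
all intermediate images of `A` lying in `T`. -/
inductive Mv (T : Subgroup G) (E : Set G) : Subgroup G → G → Prop
  | cent {A : Subgroup G} {c : G} : A ≤ T → c ∈ centralizer (A : Set G) → Mv T E A c
  | base {A : Subgroup G} {g : G} : A ≤ T → A.map (MulAut.conj g).toMonoidHom ≤ T → g ∈ E →
      Mv T E A g
  | mul {A : Subgroup G} {g h : G} : Mv T E A g →
      Mv T E (A.map (MulAut.conj g).toMonoidHom) h → Mv T E A (h * g)

namespace Mv

variable {T : Subgroup G} {E : Set G}

theorem le {A : Subgroup G} {g : G} (h : Mv T E A g) : A ≤ T := by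
  induction h with
  | cent hA _ => exact hA
  | base hA _ _ => exact hA
  | mul _ _ ih _ => exact ih

theorem map_le {A : Subgroup G} {g : G} (h : Mv T E A g) :
    A.map (MulAut.conj g).toMonoidHom ≤ T := by
  induction h with
  | cent hA hc => rwa [map_conj_of_mem_centralizer hc]
  | base _ hA _ => exact hA
  | mul _ _ _ ih => rwa [map_conj_map_conj] at ih

theorem mono {A : Subgroup G} {g : G} (h : Mv T E A g) : ∀ {B : Subgroup G}, B ≤ A → Mv T E B g := by
  induction h with
  | cent hA hc =>
    intro B hB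
    exact cent (hB.trans hA) (centralizer_le (by exact_mod_cast hB) hc)
  | base hA hAg hg =>
    intro B hB
    exact base (hB.trans hA) ((map_conj_mono hB _).trans hAg) hg
  | mul _ _ ih1 ih2 =>
    intro B hB
    exact mul (ih1 hB) (ih2 (map_conj_mono hB _))

theorem mono' {T' : Subgroup G} {E' : Set G} (hT : T ≤ T') (hE : E ⊆ E') {A : Subgroup G} {g : G}
    (h : Mv T E A g) : Mv T' E' A g := by
  induction h with
  | cent hA hc => exact cent (hA.trans hT) hc
  | base hA hAg hg => exact base (hA.trans hT) (hAg.trans hT) (hE hg)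
  | mul _ _ ih1 ih2 => exact mul ih1 ih2

theorem symm (hE : ∀ x ∈ E, x⁻¹ ∈ E) {A : Subgroup G} {g : G} (h : Mv T E A g) :
    Mv T E (A.map (MulAut.conj g).toMonoidHom) g⁻¹ := by
  induction h with
  | cent hA hc =>
    rw [map_conj_of_mem_centralizer hc]
    exact cent hA (inv_mem hc)
  | @base A g hA hAg hg =>
    refine base hAg ?_ (hE _ hg)
    rw [map_conj_map_conj, inv_mul_cancel, map_conj_one]
    exact hA
  | @mul A g h _ _ ih1 ih2 =>
    rw [mul_inv_rev]
    refine mul (by rwa [map_conj_map_conj] at ih2) ?_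
    rw [map_conj_map_conj]
    simpa using ih1

/-- Only the action on `A` matters. -/
theorem congr {A : Subgroup G} {g g' : G} (h : Mv T E A g) (hg : ∀ a ∈ A, g' * a * g'⁻¹ = g * a * g⁻¹) :
    Mv T E A g' := by
  have : g' = g * (g⁻¹ * g') := by group
  have hc : g⁻¹ * g' ∈ centralizer (A : Set G) := by
    rw [mem_centralizer_iff]
    intro a ha
    have := hg a ha
    calc a * (g⁻¹ * g') = g⁻¹ * (g * a * g⁻¹) * g' := by group
      _ = g⁻¹ * (g' * a * g'⁻¹) * g' := by rw [this]
      _ = g⁻¹ * g' * a := by group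
  rw [this]
  refine mul (cent h.le hc) ?_
  rw [map_conj_of_mem_centralizer hc]
  exact h

theorem congr_map {A : Subgroup G} {g g' : G} (hg : ∀ a ∈ A, g' * a * g'⁻¹ = g * a * g⁻¹) :
    A.map (MulAut.conj g').toMonoidHom = A.map (MulAut.conj g).toMonoidHom := by
  ext x
  constructor
  · rintro ⟨a, ha, rfl⟩
    exact ⟨a, ha, by simpa using (hg a ha).symm⟩
  · rintro ⟨a, ha, rfl⟩
    exact ⟨a, ha, by simpa using (hg a ha)⟩

/-- Transport along a homomorphism. -/
theorem map {H : Type*} [Group H] (f : G →* H) {A : Subgroup G} {g : G} (h : Mv T E A g) :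
    Mv (T.map f) (f '' E) (A.map f) (f g) := by
  have key : ∀ (A : Subgroup G) (g : G), (A.map f).map (MulAut.conj (f g)).toMonoidHom =
      (A.map (MulAut.conj g).toMonoidHom).map f := by
    intro A g
    rw [Subgroup.map_map, Subgroup.map_map]
    congr 1
    ext x
    simp
  induction h with
  | @cent A c hA hc =>
    refine cent (map_mono hA) ?_
    rw [mem_centralizer_iff]
    rintro _ ⟨a, ha, rfl⟩
    rw [← map_mul, ← map_mul, mem_centralizer_iff.1 hc a ha]
  | @base A g hA hAg hg =>
    refine base (map_mono hA) ?_ ⟨g, hg, rfl⟩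
    rw [key]
    exact map_mono hAg
  | @mul A g h _ _ ih1 ih2 =>
    rw [map_mul]
    refine mul ih1 ?_
    rw [key]
    exact ih2

end Mv

/-- Concrete chains: the elements reached from `1` by successive left multiplications by elements
of `E`, all the corresponding conjugates of the set `A` lying in `T`. -/
inductive Chs (T : Subgroup G) (E : Set G) (A : Set G) : G → Prop
  | one : A ⊆ T → Chs T E A 1
  | step {c x : G} : Chs T E A c → x ∈ E → (fun a => (x * c) * a * (x * c)⁻¹) '' A ⊆ T →
      Chs T E A (x * c)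

theorem Chs.image {T : Subgroup G} {E : Set G} {A : Set G} {c : G} (h : Chs T E A c) :
    (fun a => c * a * c⁻¹) '' A ⊆ T := by
  cases h with
  | one hA => simpa using hA
  | step _ _ h => exact h

theorem Chs.subset {T : Subgroup G} {E : Set G} {A : Set G} {c : G} (h : Chs T E A c) :
    A ⊆ T := by
  induction h with
  | one hA => exact hA
  | step _ _ _ ih => exact ih

theorem Chs.trans {T : Subgroup G} {E : Set G} {A : Set G} {c : G} (h : Chs T E A c) {d : G}
    (hd : Chs T E ((fun a => c * a * c⁻¹) '' A) d) : Chs T E A (d * c) := by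
  induction hd with
  | one _ => simpa using h
  | @step d x _ hx him ih =>
    rw [mul_assoc]
    refine Chs.step ih hx ?_
    rintro _ ⟨a, ha, rfl⟩
    apply him
    exact ⟨c * a * c⁻¹, ⟨a, ha, rfl⟩, by group⟩

/-- From a move to a concrete chain. -/
theorem Mv.exists_chs {T : Subgroup G} {E : Set G} {A : Subgroup G} {g : G} (h : Mv T E A g) :
    ∃ c, Chs T E (A : Set G) c ∧ ∀ a ∈ A, c * a * c⁻¹ = g * a * g⁻¹ := by
  induction h with
  | @cent A c hA hc =>
    refine ⟨1, Chs.one (by exact_mod_cast hA), fun a ha => ?_⟩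
    rw [conj_eq_of_mem_centralizer hc ha]; simp
  | @base A g hA hAg hg =>
    refine ⟨g * 1, Chs.step (Chs.one (by exact_mod_cast hA)) hg ?_, fun a ha => by simp⟩
    rintro _ ⟨a, ha, rfl⟩
    apply hAg
    exact ⟨a, ha, by simp⟩
  | @mul A g h _ _ ih1 ih2 =>
    obtain ⟨c, hc, hcg⟩ := ih1
    obtain ⟨d, hd, hdh⟩ := ih2
    refine ⟨d * c, hc.trans ?_, ?_⟩
    · have : (fun a => c * a * c⁻¹) '' (A : Set G) = (A.map (MulAut.conj g).toMonoidHom : Subgroup G) := by
        ext x
        constructor
        · rintro ⟨a, ha, rfl⟩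
          exact ⟨a, ha, by simpa using (hcg a ha).symm⟩
        · rintro ⟨a, ha, rfl⟩
          exact ⟨a, ha, by simpa using (hcg a ha)⟩
      rw [this]; exact hd
    · intro a ha
      have h1 := hcg a ha
      have h2 := hdh (g * a * g⁻¹) (conj_mem_map_conj ha g)
      calc d * c * a * (d * c)⁻¹ = d * (c * a * c⁻¹) * d⁻¹ := by group
        _ = d * (g * a * g⁻¹) * d⁻¹ := by rw [h1]
        _ = h * (g * a * g⁻¹) * h⁻¹ := h2
        _ = _ := by group

theorem image_subset_iff_closure {T : Subgroup G} {A : Set G} {g : G} :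
    (fun a => g * a * g⁻¹) '' A ⊆ T ↔ (closure A).map (MulAut.conj g).toMonoidHom ≤ T := by
  rw [MonoidHom.map_closure, closure_le]
  constructor
  · rintro h _ ⟨a, ha, rfl⟩
    exact h ⟨a, ha, by simp⟩
  · rintro h _ ⟨a, ha, rfl⟩
    exact h ⟨a, ha, by simp⟩

theorem Chs.mv {T : Subgroup G} {E : Set G} {A : Set G} {c : G} (h : Chs T E A c) :
    Mv T E (closure A) c := by
  induction h with
  | one hA =>
    refine Mv.cent ((closure_le _).2 hA) (one_mem _)
  | @step c x hc hx him ih =>
    refine Mv.mul ih (Mv.base ih.map_le ?_ hx)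
    rw [map_conj_map_conj]
    exact image_subset_iff_closure.1 him

/-- Concrete chains and `Fin`-indexed sequences. -/
theorem chs_iff {T : Subgroup G} {E : Set G} {A : Set G} {g : G} :
    Chs T E A g ↔ ∃ (n : ℕ) (c : Fin (n + 1) → G), c 0 = 1 ∧
        (∀ i : Fin n, c i.succ * (c i.castSucc)⁻¹ ∈ E) ∧
        (∀ i : Fin (n + 1), (fun a => c i * a * (c i)⁻¹) '' A ⊆ T) ∧ c (Fin.last n) = g := by
  constructor
  · intro h
    induction h with
    | one hA =>
      refine ⟨0, fun _ => 1, rfl, fun i => i.elim0, fun i => by simpa using hA, rfl⟩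
    | @step c x hc hx him ih =>
      obtain ⟨n, d, h0, h1, h2, h3⟩ := ih
      refine ⟨n + 1, Fin.snoc (α := fun _ => G) d (x * c), ?_, ?_, ?_, ?_⟩
      · rw [← Fin.castSucc_zero, Fin.snoc_castSucc]; exact h0
      · intro i
        refine Fin.lastCases ?_ (fun j => ?_) i
        · rw [Fin.succ_last, Fin.snoc_last, Fin.snoc_castSucc, h3]
          simpa using hx
        · rw [Fin.succ_castSucc, Fin.snoc_castSucc, Fin.snoc_castSucc]
          exact h1 j
      · intro i
        refine Fin.lastCases ?_ (fun j => ?_) i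
        · simp only [Fin.snoc_last]; exact him
        · simp only [Fin.snoc_castSucc]; exact h2 j
      · rw [Fin.snoc_last]
  · rintro ⟨n, c, h0, h1, h2, rfl⟩
    have key : ∀ k : ℕ, ∀ hk : k < n + 1, Chs T E A (c ⟨k, hk⟩) := by
      intro k
      induction k with
      | zero =>
        intro hk
        have := h2 0
        have h0' : c ⟨0, hk⟩ = 1 := h0
        rw [h0']
        refine Chs.one ?_
        rw [h0] at this
        simpa using this
      | succ k ih =>
        intro hk
        have hk' : k < n := by omega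
        have e1 := h1 ⟨k, hk'⟩
        have e2 : c (Fin.succ ⟨k, hk'⟩) * (c (Fin.castSucc ⟨k, hk'⟩))⁻¹ * c ⟨k, by omega⟩ = c ⟨k + 1, hk⟩ := by
          have : c (Fin.castSucc ⟨k, hk'⟩) = c ⟨k, by omega⟩ := rfl
          rw [this, inv_mul_cancel_right]
          rfl
        rw [← e2]
        refine Chs.step (ih (by omega)) e1 ?_
        rw [e2]
        exact h2 _
    exact key n (by omega)

end Mv

end Cfsg.Agent.H39
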