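import Cfsg.Agent.H39.Geom
import Cfsg.Agent.H39.FTRed
import Cfsg.Agent.PLocal.ChiefReduction
import Cfsg.Prelude.Def_LocalEven

/-!
# `[P, G] ≤ [P, M]` in the presence of elements with `[X, u; p - 1] ≤ Y` on chief factors
-/

set_option autoImplicit false

namespace Cfsg.Agent.H39

open Subgroup Cfsg
open Cfsg.Agent.Lib.GoldschmidtFusion
open scoped commutatorElement

variable {G : Type*} [Group G]

theorem iterCommutator_map {H : Type*} [Group H] (f : G →* H) (U K : Subgroup G) (k : ℕ) :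
    (iterCommutator U K k).map f = iterCommutator (U.map f) (K.map f) k := by
  induction k with
  | zero => rfl
  | succ k ih =>
    have h1 : iterCommutator U K (k + 1) = ⁅iterCommutator U K k, K⁆ := rfl
    have h2 : iterCommutator (U.map f) (K.map f) (k + 1) = ⁅iterCommutator (U.map f) (K.map f) k, K.map f⁆ := rfl
    rw [h1, h2, map_commutator, ih]

/-- `[U, d; p - 1] ≤ V` for all chief factors `U / V` below `P`. -/
def Good (p : ℕ) (P : Subgroup G) (d : G) : Prop :=
  ∀ U V : Subgroup G, IsChiefFactor U V → U ≤ P → iterCommutator U (zpowers d) (p - 1) ≤ V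

theorem Good.conj {p : ℕ} {P : Subgroup G} {d : G} (h : Good p P d) (g : G) : Good p P (g * d * g⁻¹) := by
  intro U V hUV hUP
  have hU := hUV.2.1
  have hV := hUV.2.2.1
  have h1 := Subgroup.map_mono (f := (MulAut.conj g).toMonoidHom) (h U V hUV hUP)
  have eU : U.map (MulAut.conj g).toMonoidHom = U :=
    mem_normalizer_iff_map_conj.1 (by rw [normalizer_eq_top U]; exact mem_top g)
  have eV : V.map (MulAut.conj g).toMonoidHom = V :=
    mem_normalizer_iff_map_conj.1 (by rw [normalizer_eq_top V]; exact mem_top g)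
  rw [iterCommutator_map, eU, eV, MonoidHom.map_zpowers] at h1
  simpa using h1

theorem Good.inv {p : ℕ} {P : Subgroup G} {d : G} (h : Good p P d) : Good p P d⁻¹ := by
  intro U V hUV hUP
  rw [zpowers_inv]
  exact h U V hUV hUP

section Finite

variable [Finite G] {p : ℕ} [Fact p.Prime]

/-- Chief factors which are `p`-groups are elementary abelian. -/
theorem chief_elementary {U V : Subgroup G} (hUV : IsChiefFactor U V) (hU : IsPGroup p U) :
    (∀ x ∈ U, ∀ y ∈ U, ⁅x, y⁆ ∈ V) ∧ ∀ x ∈ U, x ^ p ∈ V := by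
  obtain ⟨hlt, hUn, hVn, hmin⟩ := hUV
  set f := QuotientGroup.mk' V with hf
  have hfs : Function.Surjective f := QuotientGroup.mk'_surjective V
  have hker : f.ker = V := QuotientGroup.ker_mk' V
  have h1 : IsElementaryAbelian p (U.map f) := by
    refine PLocal.ChiefReduction.isElementaryAbelian_of_minimal (hUn.map f hfs) (hU.map f) ?_
    intro N hN hNU
    have h2 : N.comap f ≤ U := by
      have := comap_mono (f := f) hNU
      rwa [comap_map_eq, hker, sup_eq_left.2 hlt.le] at this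
    have h3 : V ≤ N.comap f := by
      intro x hx
      have : f x = 1 := (QuotientGroup.eq_one_iff x).2 hx
      rw [mem_comap, this]; exact one_mem _
    have h4 : (N.comap f).map f = N := map_comap_eq_self_of_surjective hfs N
    rcases hmin _ (hN.comap f) h3 h2 with h5 | h5
    · left
      rw [← h4, h5, Subgroup.map_eq_bot_iff, hker]
    · right
      rw [← h4, h5]
  obtain ⟨⟨⟨hc⟩⟩, he⟩ := h1
  constructor
  · intro x hx y hy
    rw [← QuotientGroup.eq_one_iff, ← QuotientGroup.mk'_apply, map_commutatorElement,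
      commutatorElement_eq_one_iff_mul_comm]
    exact congrArg Subtype.val (hc ⟨f x, mem_map_of_mem f hx⟩ ⟨f y, mem_map_of_mem f hy⟩)
  · intro x hx
    rw [← QuotientGroup.eq_one_iff, QuotientGroup.mk_pow]
    exact he _ (mem_map_of_mem f hx)

/-- A nontrivial normal subgroup has a chief factor on top. -/
theorem exists_chief {N : Subgroup G} (hN : N.Normal) (hne : N ≠ ⊥) : ∃ Y : Subgroup G, IsChiefFactor N Y := by
  obtain ⟨Y, ⟨hYn, hYlt⟩, hmax⟩ := Set.Finite.exists_maximal (s := {Y : Subgroup G | Y.Normal ∧ Y < N})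
    (Set.toFinite _) ⟨⊥, normal_bot, bot_lt_iff_ne_bot.2 hne⟩
  refine ⟨Y, hYlt, hN, hYn, fun K hK hYK hKN => ?_⟩
  by_cases h : K = N
  · exact Or.inr h
  · left
    exact le_antisymm (hmax ⟨hK, lt_of_le_of_ne hKN h⟩ hYK) hYK

/-- The trace argument on a chief factor. -/
theorem chief_trace {P M U V : Subgroup G} (hUV : IsChiefFactor U V) (hUP : U ≤ P) (hPp : IsPGroup p P)
    {J : Subgroup G} (hJ : IsPGroup p J) (hJM : J ≤ M) {D : Set G} (hJD : closure D = J)
    (hfix : ∀ g : G, (∀ j ∈ J, g⁻¹ * j * g ∈ M) → g ∈ M) (hD : ∀ d ∈ D, Good p P d)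
    (hne : ⁅U, M⁆ ⊔ V ≠ U) : ⁅U, (⊤ : Subgroup G)⁆ ≤ V := by
  have hU := hUV.2.1
  have hV := hUV.2.2.1
  have hVU := hUV.1.le
  obtain ⟨hcom, hpow⟩ := chief_elementary hUV (hPp.to_le hUP)
  set B := ⁅U, M⁆ ⊔ V with hB
  have hBU : B ≤ U := sup_le (commutator_le_left U M) hVU
  have hBn : (B.subgroupOf U).Normal := by
    constructor
    intro n hn g
    rw [mem_subgroupOf] at hn ⊢
    have h1 : ⁅(g : G), (n : G)⁆ ∈ B := le_sup_right (a := ⁅U, M⁆) (hcom _ g.2 _ n.2)
    have h2 := mul_mem h1 hn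
    rw [commutatorElement_def] at h2
    simpa using h2
  have hcomm : IsMulCommutative (↥U ⧸ B.subgroupOf U) := by
    rw [Subgroup.Normal.quotient_commutative_iff_commutator_le, _root_.commutator, commutator_le]
    intro x _ y _
    rw [mem_subgroupOf]
    exact le_sup_right (a := ⁅U, M⁆) (hcom _ x.2 _ y.2)
  let _ : CommGroup (↥U ⧸ B.subgroupOf U) :=
    { (inferInstance : Group (↥U ⧸ B.subgroupOf U)) with mul_comm := hcomm.is_comm.comm }
  set φ : ↥U →* ↥U ⧸ B.subgroupOf U := QuotientGroup.mk' (B.subgroupOf U) with hφ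
  have hφ1 : ∀ x : U, φ x = 1 ↔ (x : G) ∈ B := by
    intro x
    rw [hφ, QuotientGroup.mk'_apply, QuotientGroup.eq_one_iff, mem_subgroupOf]
  have hexp : ∀ a : ↥U ⧸ B.subgroupOf U, a ^ p = 1 := by
    intro a
    obtain ⟨x, rfl⟩ := QuotientGroup.mk'_surjective (B.subgroupOf U) a
    rw [← map_pow]
    exact (hφ1 _).2 (by
      rw [Subgroup.coe_pow]; exact le_sup_right (a := ⁅U, M⁆) (hpow _ x.2))
  have hφeq : ∀ (g : G) (x : U), φ (MulAut.conjNormal g x) = φ x ↔ g * x * g⁻¹ * (x : G)⁻¹ ∈ B := by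
    intro g x
    rw [← mul_inv_eq_one, ← map_inv, ← map_mul, hφ1]
    simp [MulAut.conjNormal_apply]
  have hinv : ∀ m ∈ M, ∀ x : U, φ (MulAut.conjNormal m x) = φ x := by
    intro m hm x
    rw [hφeq]
    have h1 : ⁅m, (x : G)⁆ ∈ ⁅U, M⁆ := by
      rw [commutator_comm]
      exact commutator_mem_commutator hm x.2
    exact le_sup_left (b := V) h1
  have hall := Trace.invariant_of_trace (p := p) Fact.out φ hinv hJ hJM hJD hfix ?_
  · have hGB : ⁅U, (⊤ : Subgroup G)⁆ ≤ B := by
      rw [commutator_comm, commutator_le]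
      intro g _ x hx
      exact (hφeq g ⟨x, hx⟩).1 (hall g ⟨x, hx⟩)
    have hn1 : (⁅U, (⊤ : Subgroup G)⁆ ⊔ V).Normal := inferInstance
    rcases hUV.2.2.2 _ hn1 le_sup_right (sup_le (commutator_le_left U ⊤) hVU) with h | h
    · rw [← h]; exact le_sup_left
    · exfalso
      apply hne
      refine le_antisymm hBU ?_
      rw [← h]
      exact sup_le hGB le_sup_right
  · intro d hd t x
    have hg : Good p P (t⁻¹ * d * t)⁻¹ := by
      have := (hD d hd).conj t⁻¹
      rw [inv_inv] at this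
      exact this.inv
    have h1 := Geom.prod_eq_one hexp φ (t⁻¹ * d * t)⁻¹ (fun y => (hφ1 _).2
      (le_sup_right (a := ⁅U, M⁆) (hg U V hUV hUP (Geom.kap_mem _ _ y)))) x
    rw [← h1]
    refine Finset.prod_congr rfl fun j _ => ?_
    rw [inv_pow]

/-- **`[P, G] ≤ [P, M]`**. -/
theorem commutator_top_le (S : Sylow p G) {P M : Subgroup G} [hP : P.Normal] (hPS : P ≤ S)
    (hSM : (S : Subgroup G) ≤ M)
    (hchief : ∀ U V : Subgroup G, IsChiefFactor U V → U ≤ P → ⁅U, M⁆ ⊔ V ≠ U → ⁅U, (⊤ : Subgroup G)⁆ ≤ V) :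
    ⁅P, (⊤ : Subgroup G)⁆ ≤ ⁅P, M⁆ := by
  have hp : p.Prime := Fact.out
  have hPp : IsPGroup p P := S.isPGroup'.to_le hPS
  have hMi : ¬ p ∣ M.index := fun h => S.not_dvd_index (h.trans (index_dvd_of_le hSM))
  have hPM : P ≤ M := hPS.trans hSM
  have key : ∀ n : ℕ, ∀ N : Subgroup G, Nat.card N = n → N.Normal → N ≤ P →
      ⁅P, (⊤ : Subgroup G)⁆ ≤ ⁅P, M⁆ ⊔ N → ⁅P, (⊤ : Subgroup G)⁆ ≤ ⁅P, M⁆ := by
    intro n
    induction n using Nat.strong_induction_on with
    | _ n ih =>
    intro N hn hN hNP hE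
    by_cases hN1 : N = ⊥
    · rwa [hN1, sup_bot_eq] at hE
    obtain ⟨Y, hNY⟩ := exists_chief hN hN1
    have hYN := hNY.1
    have hYn := hNY.2.2.1
    have hcard : Nat.card Y < n := by
      rw [← hn]
      exact Set.Finite.card_lt_card (Set.toFinite _) hYN
    refine ih _ hcard Y rfl hYn (hYN.le.trans hNP) ?_
    set K' := ⁅P, M⁆ ⊔ Y with hK'
    by_cases hNK : N ≤ K'
    · exact hE.trans (sup_le le_sup_left hNK)
    have hNG : ⁅N, (⊤ : Subgroup G)⁆ ≤ Y := by
      refine hchief N Y hNY hNP (fun h => hNK ?_)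
      rw [← h]
      exact sup_le_sup_right (commutator_mono hNP le_rfl) _
    have hK'P : K' ≤ P := sup_le (commutator_le_left P M) (hYN.le.trans hNP)
    have hPPK : ∀ x ∈ P, ∀ m ∈ M, ⁅m, x⁆ ∈ K' := by
      intro x hx m hm
      refine le_sup_left (b := Y) ?_
      rw [commutator_comm]
      exact commutator_mem_commutator hm hx
    have hKn : (K'.subgroupOf P).Normal := by
      constructor
      intro a ha g
      rw [mem_subgroupOf] at ha ⊢
      have h1 : ⁅(g : G), (a : G)⁆ ∈ K' := hPPK _ a.2 _ (hPM g.2)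
      have h2 := mul_mem h1 ha
      rw [commutatorElement_def] at h2
      simpa using h2
    have hcomm : IsMulCommutative (↥P ⧸ K'.subgroupOf P) := by
      rw [Subgroup.Normal.quotient_commutative_iff_commutator_le, _root_.commutator, commutator_le]
      intro x _ y _
      rw [mem_subgroupOf]
      exact hPPK _ y.2 _ (hPM x.2)
    let _ : CommGroup (↥P ⧸ K'.subgroupOf P) :=
      { (inferInstance : Group (↥P ⧸ K'.subgroupOf P)) with mul_comm := hcomm.is_comm.comm }
    set φ : ↥P →* ↥P ⧸ K'.subgroupOf P := QuotientGroup.mk' (K'.subgroupOf P) with hφ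
    have hφ1 : ∀ x : P, φ x = 1 ↔ (x : G) ∈ K' := by
      intro x
      rw [hφ, QuotientGroup.mk'_apply, QuotientGroup.eq_one_iff, mem_subgroupOf]
    have hφeq : ∀ (g : G) (x : P), φ (MulAut.conjNormal g x) = φ x ↔ g * x * g⁻¹ * (x : G)⁻¹ ∈ K' := by
      intro g x
      rw [← mul_inv_eq_one, ← map_inv, ← map_mul, hφ1]
      simp [MulAut.conjNormal_apply]
    have hinv : ∀ m ∈ M, ∀ x : P, φ (MulAut.conjNormal m x) = φ x := by
      intro m hm x
      rw [hφeq]
      exact hPPK _ x.2 _ hm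
    have htr : ⁅P, (⊤ : Subgroup G)⁆ ≤ (Trace.trHom M φ).ker.map P.subtype := by
      rw [commutator_comm, commutator_le]
      intro g _ x hx
      refine ⟨MulAut.conjNormal g ⟨x, hx⟩ * ⟨x, hx⟩⁻¹, ?_, ?_⟩
      · show Trace.trHom M φ _ = 1
        rw [map_mul, map_inv, mul_inv_eq_one]
        exact Trace.tr_conj φ hinv g ⟨x, hx⟩
      · simp [MulAut.conjNormal_apply, commutatorElement_def]
    intro x hx
    have hx' := hE hx
    have hx2 : x ∈ ((⁅P, M⁆ ⊔ N : Subgroup G) : Set G) := hx'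
    rw [mul_normal] at hx2
    obtain ⟨k, hk, m, hm, rfl⟩ := Set.mem_mul.1 hx2
    have hkG : k ∈ ⁅P, (⊤ : Subgroup G)⁆ := commutator_mono le_rfl le_top hk
    have hmG : m ∈ ⁅P, (⊤ : Subgroup G)⁆ := by
      have := mul_mem (inv_mem hkG) hx
      rwa [inv_mul_cancel_left] at this
    obtain ⟨y, hy, hym⟩ := htr hmG
    have hy1 : Trace.tr M φ y = 1 := hy
    have hym' : (y : G) = m := hym
    rw [Trace.tr_eq_pow φ y (fun t => by
      rw [hφeq]
      have h1 : ⁅t, (y : G)⁆ ∈ ⁅N, (⊤ : Subgroup G)⁆ := by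
        rw [commutator_comm]
        exact commutator_mem_commutator (mem_top t) (by rw [hym']; exact hm)
      exact le_sup_right (a := ⁅P, M⁆) (hNG h1))] at hy1
    have hAp : IsPGroup p (↥P ⧸ K'.subgroupOf P) := hPp.to_quotient _
    obtain ⟨j, hj⟩ := hAp (φ y)
    have h3 : orderOf (φ y) = 1 := Nat.eq_one_of_dvd_coprimes
      (Nat.Coprime.pow_right j ((Nat.Prime.coprime_iff_not_dvd hp).2 hMi).symm)
      (orderOf_dvd_of_pow_eq_one hy1) (orderOf_dvd_of_pow_eq_one hj)
    have h4 : (y : G) ∈ K' := (hφ1 y).1 (orderOf_eq_one_iff.1 h3)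
    rw [hym'] at h4
    exact mul_mem (le_sup_left (b := Y) hk) h4
  exact key _ P rfl hP le_rfl ((commutator_le_left P ⊤).trans le_sup_right)

/-- The main consequence: `M` contains every proper overgroup of `S`, `u ∈ S` is good but not in
`O_p(G)`; then `[P, G] ≤ [P, M]` for `P = O_p(G)`. -/
theorem commutator_top_le_of_good (S : Sylow p G) {M : Subgroup G} (hSM : (S : Subgroup G) ≤ M)
    (hM : ∀ H : Subgroup G, (S : Subgroup G) ≤ H → H ≠ ⊤ → H ≤ M) {u : G} (huS : u ∈ (S : Subgroup G))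
    (huP : u ∉ pCore p G) (hgood : Good p (pCore p G) u) :
    ⁅pCore p G, (⊤ : Subgroup G)⁆ ≤ ⁅pCore p G, M⁆ := by
  have hPn := pCore_normal p G
  have hPS := pCore_le_sylow S
  set P := pCore p G with hP
  set D : Set G := {x | x ∈ (S : Subgroup G) ∧ Good p P x} with hD
  set J := closure D with hJ
  have hJS : J ≤ S := (closure_le _).2 (fun x hx => hx.1)
  have huJ : u ∈ J := Subgroup.subset_closure ⟨huS, hgood⟩
  have hconj : ∀ g : G, J.map (MulAut.conj g).toMonoidHom ≤ S → g ∈ normalizer (J : Set G) := by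
    intro g hg
    rw [mem_normalizer_iff_map_conj]
    refine map_conj_le_of_le_normalizer ?_
    rw [hJ, MonoidHom.map_closure, closure_le]
    rintro _ ⟨x, hx, rfl⟩
    refine Subgroup.subset_closure ⟨?_, ?_⟩
    · exact hg (mem_map_of_mem _ (Subgroup.subset_closure hx))
    · simpa using hx.2.conj g
  have hSN : (S : Subgroup G) ≤ normalizer (J : Set G) := fun s hs => hconj s (conj_le_of_mem hJS hs)
  have hNJ : normalizer (J : Set G) ≤ M := by
    refine hM _ hSN (fun h => huP ?_)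
    exact Lib.Cores.le_pCore (normalizer_eq_top_iff.1 h) (S.isPGroup'.to_le hJS) huJ
  have hPp : IsPGroup p P := Lib.Cores.pCore_isPGroup p
  refine commutator_top_le S hPS hSM ?_
  intro U V hUV hUP hne
  refine chief_trace hUV hUP hPp (S.isPGroup'.to_le hJS) (hJS.trans hSM) rfl ?_
    (fun d hd => hd.2) hne
  intro g hg
  have hJg : J.map (MulAut.conj g⁻¹).toMonoidHom ≤ M := by
    rintro _ ⟨j, hj, rfl⟩
    simpa using hg j hj
  obtain ⟨m, hm, hmS⟩ := exists_conj_le_sylow S hSM ((S.isPGroup'.to_le hJS).map _) hJg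
  rw [map_conj_map_conj] at hmS
  have h1 := hNJ (hconj _ hmS)
  have h2 := mul_mem (inv_mem hm) h1
  rw [inv_mul_cancel_left] at h2
  exact (inv_mem_iff).1 h2

end Finite

end Cfsg.Agent.H39
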