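import Cfsg.Agent.H39.LocalGlobal
import Cfsg.Agent.H39.Sec

/-!
# Control of transfer by a set of isomorphism-invariant functors

`FT p 𝓦 X`: `T ⊓ X' ≤ ⟨T ⊓ N(W(T))' : W ∈ 𝓦⟩` for every Sylow `p`-subgroup `T` of `X`.
-/

set_option autoImplicit false

namespace Cfsg.Agent.H39

open Subgroup Cfsg
open Cfsg.Agent.Lib.GoldschmidtFusion

universe u

section General

variable {G : Type*} [Group G]

theorem family_transfer_iff {p : ℕ} {𝓦 : Set (Subgroup G → Subgroup G)} {H : Subgroup G} :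
    FamilyControlsTransferIn p 𝓦 H ↔ ∃ T : Subgroup G, T ≤ H ∧ IsPGroup p T ∧
      ¬ p ∣ T.relIndex H ∧ T ⊓ ⁅H, H⁆ ≤ focalW 𝓦 T H := by
  unfold FamilyControlsTransferIn
  refine exists_congr fun T => and_congr_right fun _ => and_congr_right fun _ =>
    and_congr_right fun _ => ?_
  exact ⟨fun h => h.le, fun h => le_antisymm h focalW_le⟩

end General

section Induced

variable {X : Type u} [Group X] {p : ℕ} {𝓦 : Set Fn.{u}}

/-- `⟨T ⊓ (N_H(W(T)))' : W ∈ 𝓦⟩`. -/
def focalI (𝓦 : Set Fn.{u}) (T H : Subgroup X) : Subgroup X :=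
  ⨆ W ∈ 𝓦, T ⊓ ⁅H ⊓ normalizer ((inducedFunctor (G := X) W T : Subgroup X) : Set X),
    H ⊓ normalizer ((inducedFunctor (G := X) W T : Subgroup X) : Set X)⁆

theorem focalW_induced (𝓦 : Set Fn.{u}) (T H : Subgroup X) :
    focalW ((fun W => inducedFunctor (G := X) W) '' 𝓦) T H = focalI 𝓦 T H := by
  rw [focalW, focalI, iSup_image]

theorem focalI_mono {T H K : Subgroup X} (h : H ≤ K) : focalI 𝓦 T H ≤ focalI 𝓦 T K :=
  iSup₂_mono fun _ _ => inf_le_inf_left _ (commutator_mono (inf_le_inf_right _ h) (inf_le_inf_right _ h))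

theorem focalI_le {T H : Subgroup X} : focalI 𝓦 T H ≤ T ⊓ ⁅H, H⁆ :=
  iSup₂_le fun _ _ => inf_le_inf_left _ (commutator_mono inf_le_left inf_le_left)

theorem le_focalI {T H : Subgroup X} {W : Fn.{u}} (hW : W ∈ 𝓦) :
    T ⊓ ⁅H ⊓ normalizer ((inducedFunctor (G := X) W T : Subgroup X) : Set X),
      H ⊓ normalizer ((inducedFunctor (G := X) W T : Subgroup X) : Set X)⁆ ≤ focalI 𝓦 T H :=
  le_iSup₂_of_le W hW le_rfl

theorem map_inf_normalizer_induced {Y : Type u} [Group Y] {W : Fn.{u}} (hW : IsCharPFunctor.{u} p W)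
    (f : X →* Y) (hf : Function.Injective f) {T H : Subgroup X} [Finite T] (hT : IsPGroup p T) :
    (H ⊓ normalizer ((inducedFunctor (G := X) W T : Subgroup X) : Set X)).map f =
      H.map f ⊓ normalizer ((inducedFunctor (G := Y) W (T.map f) : Subgroup Y) : Set Y) := by
  have key : ∀ x : X, f x ∈ normalizer ((inducedFunctor (G := Y) W (T.map f) : Subgroup Y) : Set Y) ↔
      x ∈ normalizer ((inducedFunctor (G := X) W T : Subgroup X) : Set X) := by
    intro x
    rw [induced_map hW f hf hT, mem_normalizer_iff_map_conj, mem_normalizer_iff_map_conj]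
    have : ((inducedFunctor (G := X) W T).map f).map (MulAut.conj (f x)).toMonoidHom =
        ((inducedFunctor (G := X) W T).map (MulAut.conj x).toMonoidHom).map f := by
      rw [Subgroup.map_map, Subgroup.map_map]
      congr 1
      ext y; simp
    rw [this]
    exact (Subgroup.map_injective hf).eq_iff
  ext y
  constructor
  · rintro ⟨x, ⟨hx, hx'⟩, rfl⟩
    exact ⟨⟨x, hx, rfl⟩, (key x).2 hx'⟩
  · rintro ⟨⟨x, hx, rfl⟩, hx'⟩
    exact ⟨x, ⟨hx, (key x).1 hx'⟩, rfl⟩

theorem map_focalI {Y : Type u} [Group Y] (h𝓦 : ∀ W ∈ 𝓦, IsCharPFunctor.{u} p W)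
    (f : X →* Y) (hf : Function.Injective f) {T H : Subgroup X} [Finite T] (hT : IsPGroup p T) :
    (focalI 𝓦 T H).map f = focalI 𝓦 (T.map f) (H.map f) := by
  rw [focalI, focalI, Subgroup.map_iSup]
  refine iSup_congr fun W => ?_
  rw [Subgroup.map_iSup]
  refine iSup_congr fun hW => ?_
  rw [Subgroup.map_inf _ _ f hf, map_commutator, map_inf_normalizer_induced (h𝓦 W hW) f hf hT]

/-- The set `𝓦` of isomorphism-invariant functors controls transfer in the group `X`. -/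
def FT (p : ℕ) (𝓦 : Set Fn.{u}) (X : Type u) [Group X] : Prop :=
  ∀ T : Sylow p X, (T : Subgroup X) ⊓ ⁅(⊤ : Subgroup X), ⊤⁆ ≤ focalI 𝓦 (T : Subgroup X) ⊤

theorem FT.aux {Y : Type u} [Group Y] [Finite X] (h𝓦 : ∀ W ∈ 𝓦, IsCharPFunctor.{u} p W)
    (f : X →* Y) (hf : Function.Injective f) {T : Subgroup X} (hT : IsPGroup p T)
    (hc : T ⊓ ⁅(⊤ : Subgroup X), ⊤⁆ ≤ focalI 𝓦 T ⊤) :
    T.map f ⊓ ⁅f.range, f.range⁆ ≤ focalI 𝓦 (T.map f) f.range := by
  have h1 := Subgroup.map_mono (f := f) hc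
  rwa [map_focalI h𝓦 f hf hT, Subgroup.map_inf _ _ f hf, map_commutator, ← MonoidHom.range_eq_map] at h1

variable [Fact p.Prime]

theorem ft_of_one [Finite X] (h𝓦 : ∀ W ∈ 𝓦, IsCharPFunctor.{u} p W) (T : Sylow p X)
    (hc : (T : Subgroup X) ⊓ ⁅(⊤ : Subgroup X), ⊤⁆ ≤ focalI 𝓦 (T : Subgroup X) ⊤) : FT p 𝓦 X := by
  intro R
  obtain ⟨g, hg⟩ := MulAction.exists_smul_eq X T R
  have hR : (R : Subgroup X) = (T : Subgroup X).map (MulAut.conj g).toMonoidHom := by
    rw [← hg, Sylow.coe_subgroup_smul]; rfl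
  have := FT.aux h𝓦 (MulAut.conj g).toMonoidHom (MulAut.conj g).injective T.isPGroup' hc
  rw [← hR] at this
  have hr : (MulAut.conj g).toMonoidHom.range = ⊤ :=
    MonoidHom.range_eq_top.2 (MulAut.conj g).surjective
  rwa [hr] at this

theorem ft_iff [Finite X] (h𝓦 : ∀ W ∈ 𝓦, IsCharPFunctor.{u} p W) :
    FamilyControlsTransferIn p ((fun W => inducedFunctor (G := X) W) '' 𝓦) ⊤ ↔ FT p 𝓦 X := by
  rw [family_transfer_iff]
  constructor
  · rintro ⟨T, -, hT, hTi, hc⟩
    rw [relIndex_top_right] at hTi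
    rw [focalW_induced] at hc
    exact ft_of_one h𝓦 (hT.toSylow hTi) hc
  · intro h
    obtain ⟨T⟩ : Nonempty (Sylow p X) := inferInstance
    refine ⟨T, le_top, T.isPGroup', ?_, ?_⟩
    · rw [relIndex_top_right]; exact T.not_dvd_index
    · rw [focalW_induced]; exact h T

theorem FT.of_equiv {Y : Type u} [Group Y] [Finite X] (h𝓦 : ∀ W ∈ 𝓦, IsCharPFunctor.{u} p W)
    (e : X ≃* Y) (h : FT p 𝓦 X) : FT p 𝓦 Y := by
  have : Finite Y := Finite.of_equiv X e.toEquiv
  obtain ⟨T⟩ : Nonempty (Sylow p X) := inferInstance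
  have hc := FT.aux h𝓦 e.toMonoidHom e.injective T.isPGroup' (h T)
  have hr : e.toMonoidHom.range = ⊤ := MonoidHom.range_eq_top.2 e.surjective
  rw [hr] at hc
  have hT' : ((T.mapSurjective (f := e.toMonoidHom) e.surjective : Sylow p Y) : Subgroup Y) =
      (T : Subgroup X).map e.toMonoidHom := rfl
  refine ft_of_one h𝓦 (T.mapSurjective (f := e.toMonoidHom) e.surjective) ?_
  rw [hT']
  exact hc

theorem FT.subgroup [Finite X] (h𝓦 : ∀ W ∈ 𝓦, IsCharPFunctor.{u} p W) {H : Subgroup X}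
    (h : FT p 𝓦 H) {T : Subgroup X} (hTH : T ≤ H) (hT : IsPGroup p T) (hTi : ¬ p ∣ T.relIndex H) :
    T ⊓ ⁅H, H⁆ ≤ focalI 𝓦 T H := by
  have hT' : IsPGroup p (T.subgroupOf H) := hT.comap_of_injective H.subtype H.subtype_injective
  have := FT.aux h𝓦 H.subtype H.subtype_injective hT' (h (hT'.toSylow hTi))
  have e1 : (T.subgroupOf H).map H.subtype = T := by
    rw [subgroupOf_map_subtype, inf_eq_left.2 hTH]
  rwa [e1, H.range_subtype] at this

/-- Control of transfer in all `p`-local subgroups implies control of transfer. -/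
theorem ft_of_local [Finite X] (h𝓦 : ∀ W ∈ 𝓦, IsCharPFunctor.{u} p W)
    (hprop : ∀ V : Subgroup X, V ≠ ⊥ → IsPGroup p V → FT p 𝓦 (normalizer (V : Set X))) :
    FT p 𝓦 X := by
  intro S
  have h𝓦' : ∀ W ∈ (fun W => inducedFunctor (G := X) W) '' 𝓦, IsConjugacyFunctor p W := by
    rintro _ ⟨W, hW, rfl⟩
    exact isConjugacyFunctor_induced (h𝓦 W hW)
  have := focal_of_local h𝓦' S (fun V hVS hV1 hVi => by
    rw [focalW_induced]
    exact (hprop V hV1 (S.isPGroup'.to_le hVS)).subgroup h𝓦 inf_le_right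
      (S.isPGroup'.to_le inf_le_left) hVi)
  rwa [focalW_induced] at this

/-- Single functors. -/
theorem focalI_singleton {W : Fn.{u}} {T H : Subgroup X} :
    focalI {W} T H = T ⊓ ⁅H ⊓ normalizer ((inducedFunctor (G := X) W T : Subgroup X) : Set X),
      H ⊓ normalizer ((inducedFunctor (G := X) W T : Subgroup X) : Set X)⁆ := by
  rw [focalI, iSup_singleton]

theorem transferIn_iff [Finite X] {W : Fn.{u}} (hW : IsCharPFunctor.{u} p W) :
    ControlsTransferIn p (inducedFunctor (G := X) W) ⊤ ↔ FT p {W} X := by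
  have h𝓦 : ∀ W' ∈ ({W} : Set Fn.{u}), IsCharPFunctor.{u} p W' := by rintro W' rfl; exact hW
  rw [← ft_iff h𝓦, family_transfer_iff]
  unfold ControlsTransferIn
  refine exists_congr fun T => and_congr_right fun _ => and_congr_right fun _ =>
    and_congr_right fun _ => ?_
  rw [focalW_induced, focalI_singleton]
  constructor
  · exact fun h => h.le
  · intro h
    refine le_antisymm h (inf_le_inf_left _ (commutator_mono inf_le_left inf_le_left))

end Induced

end Cfsg.Agent.H39
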