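import Mathlib

/-!
# The trace argument

`M ≤ G`, `U ⊴ G`, `φ : U →* A` an `M`-invariant homomorphism to a commutative group. `f φ x ω`,
`ω = t M ∈ G/M`, is `φ (t⁻¹ x t)`; the product over `G/M` is `G`-invariant.
-/

set_option autoImplicit false
set_option linter.style.haveILetI false
set_option linter.unusedSectionVars false

namespace Cfsg.Agent.H39.Trace

open Subgroup Finset

section Orbits

variable {Ω A : Type*} [CommGroup A] [DecidableEq Ω]

theorem prod_range_mul_eq_one {F : ℕ → A} {p : ℕ} (h : ∀ k, ∏ j ∈ range p, F (k + j) = 1) (m : ℕ) :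
    ∏ j ∈ range (p * m), F j = 1 := by
  induction m with
  | zero => simp
  | succ m ih =>
    rw [Nat.mul_succ, prod_range_add, ih, one_mul]
    exact h _

/-- A permutation of `p`-power order without fixed points on `R`, and a function with
trivial products over `p` consecutive points. -/
theorem prod_eq_one_of_perm {p : ℕ} (hp : p.Prime) (σ : Equiv.Perm Ω) {k : ℕ} (hσ : σ ^ p ^ k = 1)
    (f : Ω → A) (R : Finset Ω) (hR : ∀ ω ∈ R, σ ω ∈ R) (hfix : ∀ ω ∈ R, σ ω ≠ ω)
    (hf : ∀ ω ∈ R, ∏ j ∈ range p, f ((σ ^ j) ω) = 1) : ∏ ω ∈ R, f ω = 1 := by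
  have key : ∀ n : ℕ, ∀ R : Finset Ω, R.card = n → (∀ ω ∈ R, σ ω ∈ R) → (∀ ω ∈ R, σ ω ≠ ω) →
      (∀ ω ∈ R, ∏ j ∈ range p, f ((σ ^ j) ω) = 1) → ∏ ω ∈ R, f ω = 1 := by
    intro n
    induction n using Nat.strong_induction_on with
    | _ n ih =>
    intro R hn hR hfix hf
    rcases R.eq_empty_or_nonempty with rfl | ⟨ω, hω⟩
    · simp
    set m := Function.minimalPeriod σ ω with hm
    have hpow : ∀ j : ℕ, (σ ^ j) ω ∈ R := by
      intro j
      induction j with
      | zero => simpa using hω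
      | succ j ihj => rw [pow_succ', Equiv.Perm.mul_apply]; exact hR _ ihj
    have hit : ∀ j : ℕ, (σ ^ j) ω = σ^[j] ω := fun j => by rw [Equiv.Perm.iterate_eq_pow]
    have hper : Function.IsPeriodicPt σ (p ^ k) ω := by
      rw [Function.IsPeriodicPt, Function.IsFixedPt, ← hit, hσ]; rfl
    have hmdvd : m ∣ p ^ k := hper.minimalPeriod_dvd
    have hmpos : 0 < m := hper.minimalPeriod_pos (pow_pos hp.pos k)
    have hm1 : m ≠ 1 := by
      intro h
      exact hfix ω hω (Function.minimalPeriod_eq_one_iff_isFixedPt.1 h)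
    obtain ⟨i, -, hi⟩ := (Nat.dvd_prime_pow hp).1 hmdvd
    have hi0 : i ≠ 0 := by
      rintro rfl
      exact hm1 (by simpa using hi)
    obtain ⟨m', hm'⟩ : p ∣ m := by rw [hi]; exact dvd_pow_self p hi0
    set O := (range m).image (fun j => (σ ^ j) ω) with hO
    have hOR : O ⊆ R := by
      intro x hx
      obtain ⟨j, -, rfl⟩ := mem_image.1 hx
      exact hpow j
    have hinj : Set.InjOn (fun j => (σ ^ j) ω) (range m : Finset ℕ) := by
      intro a ha b hb hab
      simp only [hit] at hab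
      exact Function.iterate_injOn_Iio_minimalPeriod (by simpa using ha) (by simpa using hb) hab
    have hOprod : ∏ x ∈ O, f x = 1 := by
      rw [hO, prod_image hinj, hm']
      refine prod_range_mul_eq_one (fun l => ?_) m'
      have := hf _ (hpow l)
      rw [← this]
      refine prod_congr rfl fun j _ => ?_
      rw [← Equiv.Perm.mul_apply, ← pow_add, add_comm]
    have hOσ : ∀ x ∈ O, σ x ∈ O := by
      intro x hx
      obtain ⟨j, hj, rfl⟩ := mem_image.1 hx
      rw [hO, mem_image]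
      refine ⟨(j + 1) % m, by simpa using Nat.mod_lt _ hmpos, ?_⟩
      simp only [hit]
      rw [hm, Function.iterate_mod_minimalPeriod_eq, Function.iterate_succ_apply']
    have hR' : ∀ x ∈ R \ O, σ x ∈ R \ O := by
      intro x hx
      rw [mem_sdiff] at hx ⊢
      refine ⟨hR x hx.1, fun h => hx.2 ?_⟩
      -- `σ` permutes `O`
      have himg : O.image σ = O := by
        apply Finset.eq_of_subset_of_card_le
        · intro y hy
          obtain ⟨z, hz, rfl⟩ := mem_image.1 hy
          exact hOσ z hz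
        · rw [card_image_of_injective _ σ.injective]
      rw [← himg] at h
      obtain ⟨z, hz, hzx⟩ := mem_image.1 h
      rwa [← σ.injective hzx]
    have hcard : (R \ O).card < n := by
      rw [← hn]
      apply card_lt_card
      refine ⟨sdiff_subset, fun h => ?_⟩
      have h1 := h hω
      rw [mem_sdiff] at h1
      apply h1.2
      rw [hO, mem_image]
      exact ⟨0, by simpa using hmpos, by simp⟩
    have h2 := ih _ hcard (R \ O) rfl hR' (fun x hx => hfix x (mem_sdiff.1 hx).1)
      (fun x hx => hf x (mem_sdiff.1 hx).1)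
    rw [← prod_sdiff hOR, h2, hOprod, one_mul]
  exact key _ R rfl hR hfix hf

/-- A finite `p`-group `J` generated by `D` acting on a finite set `R` without fixed points, and a
function whose products over `p` consecutive points under elements of `D` are trivial. -/
theorem prod_eq_one_of_pGroup {p : ℕ} (hp : p.Prime) {G : Type*} [Group G] [Finite G] [MulAction G Ω]
    {J : Subgroup G} (hJ : IsPGroup p J) {D : Set G} (hJD : closure D = J)
    (f : Ω → A) (R : Finset Ω) (hR : ∀ j ∈ J, ∀ ω ∈ R, j • ω ∈ R)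
    (hfix : ∀ ω ∈ R, ∃ j ∈ J, j • ω ≠ ω)
    (hf : ∀ d ∈ D, ∀ ω ∈ R, ∏ j ∈ range p, f (d ^ j • ω) = 1) : ∏ ω ∈ R, f ω = 1 := by
  classical
  have : Fact p.Prime := ⟨hp⟩
  have key : ∀ n : ℕ, ∀ R : Finset Ω, R.card = n → (∀ j ∈ J, ∀ ω ∈ R, j • ω ∈ R) →
      (∀ ω ∈ R, ∃ j ∈ J, j • ω ≠ ω) →
      (∀ d ∈ D, ∀ ω ∈ R, ∏ j ∈ range p, f (d ^ j • ω) = 1) → ∏ ω ∈ R, f ω = 1 := by
    intro n
    induction n using Nat.strong_induction_on with
    | _ n ih =>
    intro R hn hR hfix hf
    rcases R.eq_empty_or_nonempty with rfl | ⟨ω, hω⟩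
    · simp
    -- the `J`-orbit of `ω`
    set O := R.filter (fun x => ∃ j ∈ J, j • ω = x) with hO
    have hOR : O ⊆ R := filter_subset _ _
    have hmemO : ∀ x, x ∈ O ↔ ∃ j ∈ J, j • ω = x := by
      intro x
      rw [hO, mem_filter]
      refine ⟨fun h => h.2, fun h => ⟨?_, h⟩⟩
      obtain ⟨j, hj, rfl⟩ := h
      exact hR j hj ω hω
    -- a maximal subgroup of `J` containing the stabilizer
    have hstab : (MulAction.stabilizer G ω).subgroupOf J ≠ ⊤ := by
      intro h
      obtain ⟨j, hj, hjω⟩ := hfix ω hω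
      apply hjω
      rw [subgroupOf_eq_top] at h
      exact h hj
    obtain ⟨J₁, hJ₁, hle⟩ := (eq_top_or_exists_le_coatom ((MulAction.stabilizer G ω).subgroupOf J)).resolve_left hstab
    have hnil : Group.IsNilpotent J := hJ.isNilpotent
    have hJ₁n : J₁.Normal := Group.normalizerCondition_of_isNilpotent (G := J) |>.normal_of_coatom J₁ hJ₁
    obtain ⟨d, hd, hdJ, hdJ₁⟩ : ∃ d ∈ D, ∃ h : d ∈ J, (⟨d, h⟩ : J) ∉ J₁ := by
      by_contra hcon
      push Not at hcon
      apply hJ₁.1
      rw [eq_top_iff]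
      have h1 : J ≤ J₁.map J.subtype := by
        refine hJD.ge.trans ?_
        rw [closure_le]
        intro d hd
        have hdJ : d ∈ J := hJD.le (Subgroup.subset_closure hd)
        exact ⟨⟨d, hdJ⟩, hcon d hd hdJ, rfl⟩
      intro x _
      obtain ⟨y, hy, hyx⟩ := h1 x.2
      have : y = x := Subtype.ext hyx
      rwa [← this]
    obtain ⟨k, hk⟩ := hJ ⟨d, hdJ⟩
    have hk' : d ^ p ^ k = 1 := by simpa using congrArg Subtype.val hk
    have hOprod : ∏ x ∈ O, f x = 1 := by
      refine prod_eq_one_of_perm hp (MulAction.toPerm d) (k := k) ?_ f O ?_ ?_ ?_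
      · rw [← MulAction.toPermHom_apply, ← map_pow, hk', map_one]
      · intro x hx
        rw [hmemO] at hx ⊢
        obtain ⟨j, hj, rfl⟩ := hx
        exact ⟨d * j, J.mul_mem hdJ hj, by rw [mul_smul]; rfl⟩
      · intro x hx hdx
        rw [hmemO] at hx
        obtain ⟨j, hj, rfl⟩ := hx
        have hdx' : d • (j • ω) = j • ω := hdx
        have h1 : j⁻¹ * d * j ∈ MulAction.stabilizer G ω := by
          rw [MulAction.mem_stabilizer_iff, mul_smul, mul_smul, hdx', inv_smul_smul]
        have h2 : (⟨j⁻¹ * d * j, J.mul_mem (J.mul_mem (J.inv_mem hj) hdJ) hj⟩ : J) ∈ J₁ := by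
          apply hle
          rw [mem_subgroupOf]
          exact h1
        have h3 := hJ₁n.conj_mem _ h2 ⟨j, hj⟩
        apply hdJ₁
        convert h3 using 1
        apply Subtype.ext
        simp [mul_assoc]
      · intro x hx
        have h1 := hf d hd x (hOR hx)
        rw [← h1]
        refine prod_congr rfl fun j _ => ?_
        rw [← MulAction.toPermHom_apply, ← map_pow]; rfl
    have hR' : ∀ j ∈ J, ∀ x ∈ R \ O, j • x ∈ R \ O := by
      intro j hj x hx
      rw [mem_sdiff, hmemO] at hx ⊢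
      refine ⟨hR j hj x hx.1, fun h => hx.2 ?_⟩
      obtain ⟨i, hi, hix⟩ := h
      exact ⟨j⁻¹ * i, J.mul_mem (J.inv_mem hj) hi, by rw [mul_smul, hix, inv_smul_smul]⟩
    have hcard : (R \ O).card < n := by
      rw [← hn]
      apply card_lt_card
      refine ⟨sdiff_subset, fun h => ?_⟩
      have h1 := h hω
      rw [mem_sdiff] at h1
      apply h1.2
      rw [hmemO]
      exact ⟨1, J.one_mem, one_smul _ _⟩
    have h2 := ih _ hcard (R \ O) rfl hR' (fun x hx => hfix x (mem_sdiff.1 hx).1)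
      (fun d hd x hx => hf d hd x (mem_sdiff.1 hx).1)
    rw [← prod_sdiff hOR, h2, hOprod, one_mul]
  exact key _ R rfl hR hfix hf

end Orbits

section Trace

variable {G : Type*} [Group G] [Finite G] {M U : Subgroup G} [hU : U.Normal] {A : Type*} [CommGroup A]

/-- `φ (t⁻¹ x t)` for `ω = t M`. -/
noncomputable def ft (M : Subgroup G) (φ : U →* A) (x : U) (ω : G ⧸ M) : A :=
  φ (MulAut.conjNormal ω.out⁻¹ x)

omit [Finite G] in
theorem ft_mk (φ : U →* A) (hφ : ∀ m ∈ M, ∀ x : U, φ (MulAut.conjNormal m x) = φ x) (x : U) (t : G) :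
    ft M φ x (t : G ⧸ M) = φ (MulAut.conjNormal t⁻¹ x) := by
  obtain ⟨m, hm⟩ := QuotientGroup.mk_out_eq_mul M t
  rw [ft, hm, mul_inv_rev, map_mul, MulAut.mul_apply]
  exact hφ _ (inv_mem m.2) _

/-- The product over `G / M`. -/
noncomputable def tr (M : Subgroup G) (φ : U →* A) (x : U) : A :=
  letI := Fintype.ofFinite (G ⧸ M)
  ∏ ω : G ⧸ M, ft M φ x ω

theorem tr_conj (φ : U →* A) (hφ : ∀ m ∈ M, ∀ x : U, φ (MulAut.conjNormal m x) = φ x) (g : G) (x : U) :
    tr M φ (MulAut.conjNormal g x) = tr M φ x := by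
  letI := Fintype.ofFinite (G ⧸ M)
  rw [tr, tr]
  refine (Fintype.prod_equiv (MulAction.toPerm g : Equiv.Perm (G ⧸ M)) _ _ fun ω => ?_).symm
  obtain ⟨t, rfl⟩ := QuotientGroup.mk_surjective ω
  have e : (MulAction.toPerm g : Equiv.Perm (G ⧸ M)) (t : G ⧸ M) = ((g * t : G) : G ⧸ M) := rfl
  rw [e, ft_mk φ hφ, ft_mk φ hφ, mul_inv_rev, ← MulAut.mul_apply, ← map_mul, inv_mul_cancel_right]

theorem tr_mul (φ : U →* A) (x y : U) : tr M φ (x * y) = tr M φ x * tr M φ y := by
  letI := Fintype.ofFinite (G ⧸ M)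
  rw [tr, tr, tr, ← prod_mul_distrib]
  refine prod_congr rfl fun ω _ => ?_
  rw [ft, ft, ft, map_mul, map_mul]

/-- The trace as a homomorphism. -/
noncomputable def trHom (M : Subgroup G) (φ : U →* A) : U →* A where
  toFun := tr M φ
  map_one' := by
    letI := Fintype.ofFinite (G ⧸ M)
    rw [tr]
    refine prod_eq_one fun ω _ => ?_
    rw [ft, map_one, map_one]
  map_mul' := tr_mul φ

theorem tr_eq_pow (φ : U →* A) (x : U) (h : ∀ t : G, φ (MulAut.conjNormal t x) = φ x) :
    tr M φ x = φ x ^ M.index := by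
  letI := Fintype.ofFinite (G ⧸ M)
  rw [tr, Subgroup.index_eq_card, Nat.card_eq_fintype_card, ← Finset.card_univ]
  exact prod_eq_pow_card fun ω _ => h _

/-- **The trace argument.** `J` is a `p`-subgroup of `M` generated by `D` whose only fixed point on `G/M`
is `M`; if the `M`-invariant homomorphism `φ` satisfies `∏_{j<p} φ (d^{-j} x d^j) = 1` for
all conjugates `d` of elements of `D`, then `φ` is `G`-invariant. -/
theorem invariant_of_trace {p : ℕ} (hp : p.Prime) (φ : U →* A)
    (hφ : ∀ m ∈ M, ∀ x : U, φ (MulAut.conjNormal m x) = φ x)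
    {J : Subgroup G} (hJ : IsPGroup p J) (hJM : J ≤ M) {D : Set G} (hJD : closure D = J)
    (hfix : ∀ g : G, (∀ j ∈ J, g⁻¹ * j * g ∈ M) → g ∈ M)
    (hD : ∀ d ∈ D, ∀ t : G, ∀ x : U,
      ∏ j ∈ range p, φ (MulAut.conjNormal ((t⁻¹ * d * t) ^ j)⁻¹ x) = 1)
    (g : G) (x : U) : φ (MulAut.conjNormal g x) = φ x := by
  classical
  letI := Fintype.ofFinite (G ⧸ M)
  have key : ∀ x : U, tr M φ x = φ x := by
    intro x
    rw [tr, ← Finset.mul_prod_erase univ _ (mem_univ ((1 : G) : G ⧸ M)), ft_mk φ hφ, inv_one, map_one,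
      MulAut.one_apply]
    have h1 : ∏ ω ∈ univ.erase ((1 : G) : G ⧸ M), ft M φ x ω = 1 := by
      refine prod_eq_one_of_pGroup hp hJ hJD _ _ ?_ ?_ ?_
      · intro j hj ω hω
        rw [mem_erase] at hω ⊢
        refine ⟨fun h => hω.1 ?_, mem_univ _⟩
        obtain ⟨t, rfl⟩ := QuotientGroup.mk_surjective ω
        have h' : ((j * t : G) : G ⧸ M) = ((1 : G) : G ⧸ M) := h
        rw [QuotientGroup.eq] at h' ⊢
        have h2 := M.mul_mem h' (M.one_mem)
        have h3 : (j * t)⁻¹ * 1 * 1 * j = t⁻¹ := by group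
        have h4 := M.mul_mem h2 (hJM hj)
        have e : (j * t)⁻¹ * 1 * 1 * j = t⁻¹ * 1 := by group
        rwa [e] at h4
      · intro ω hω
        rw [mem_erase] at hω
        obtain ⟨t, rfl⟩ := QuotientGroup.mk_surjective ω
        by_contra hcon
        push Not at hcon
        apply hω.1
        rw [eq_comm, QuotientGroup.eq, inv_one, one_mul]
        refine hfix t fun j hj => ?_
        have h2 : ((j * t : G) : G ⧸ M) = (t : G ⧸ M) := hcon j hj
        rw [eq_comm, QuotientGroup.eq] at h2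
        rwa [mul_assoc]
      · intro d hd ω _
        obtain ⟨t, rfl⟩ := QuotientGroup.mk_surjective ω
        have h2 := hD d hd t (MulAut.conjNormal t⁻¹ x)
        rw [← h2]
        refine prod_congr rfl fun j _ => ?_
        have e : d ^ j • (t : G ⧸ M) = ((d ^ j * t : G) : G ⧸ M) := rfl
        rw [e, ft_mk φ hφ, ← MulAut.mul_apply, ← map_mul]
        congr 3
        have h3 : (t⁻¹ * d * t) ^ j = t⁻¹ * d ^ j * t := by
          have := conj_pow (a := t⁻¹) (b := d) (i := j)
          rwa [inv_inv] at this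
        rw [h3]; group
    rw [h1, mul_one]
  rw [← key, ← key, tr_conj φ hφ]

end Trace

end Cfsg.Agent.H39.Trace
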